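import Cfsg.Agent.FusRankThreeNormal.Group
import Mathlib.Tactic.LinearCombination
import Mathlib.Tactic.FieldSimp

/-!
Two automorphisms of a `p`-group, each fixing a maximal subgroup pointwise and acting trivially on
the quotient by it, either generate a `p`-group or generate an involution inverting the quotient by
the intersection of the two maximal subgroups.
-/

set_option autoImplicit false
set_option linter.style.haveILetI false
set_option linter.unusedSectionVars false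

namespace Cfsg.Agent.FusRankThreeNormal

open Subgroup

variable {P : Type*} [Group P] {p : ℕ} [hp : Fact p.Prime]

/-- An additive coordinate with kernel `T`. -/
theorem exists_coord {T : Subgroup P} [T.Normal] (hT : T.index = p) :
    ∃ f : P → ZMod p, (∀ a b, f (a * b) = f a + f b) ∧ ∀ a, f a = 0 ↔ a ∈ T := by
  let e : P ⧸ T ≃* Multiplicative (ZMod p) := mulEquivOfPrimeCardEq (p := p)
    ((index_eq_card T).symm.trans hT) ((Nat.card_congr Multiplicative.toAdd).trans (Nat.card_zmod p))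
  refine ⟨fun a => (e (QuotientGroup.mk' T a)).toAdd, fun a b => ?_, fun a => ?_⟩
  · show (e (QuotientGroup.mk' T (a * b))).toAdd = _
    rw [map_mul, map_mul, toAdd_mul]
  · show (e (QuotientGroup.mk' T a)).toAdd = 0 ↔ _
    rw [toAdd_eq_zero, MulEquiv.map_eq_one_iff]
    exact QuotientGroup.eq_one_iff a

/-- Powers of an automorphism moving `x` by a fixed element. -/
theorem pow_apply_fix {h : MulAut P} {x : P} (hx : h (x⁻¹ * h x) = x⁻¹ * h x) (n : ℕ) :
    (h ^ n) x = x * (x⁻¹ * h x) ^ n := by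
  induction n with
  | zero => simp
  | succ n ih =>
    rw [pow_succ' h, MulAut.mul_apply, ih, map_mul, map_pow, hx, pow_succ', ← mul_assoc x,
      mul_inv_cancel_left]

variable [Finite P]

/-- Automorphisms stabilising a series of length three form a `p`-group. -/
theorem isPGroup_of_stab (hP : IsPGroup p P) {C0 T' : Subgroup P} (hC : C0 ≤ T') (s : Set (MulAut P))
    (h0 : ∀ h ∈ s, ∀ x ∈ C0, h x = x) (h1 : ∀ h ∈ s, ∀ x ∈ T', x⁻¹ * h x ∈ C0)
    (h2 : ∀ h ∈ s, ∀ g, g⁻¹ * h g ∈ T') : IsPGroup p (closure s) := by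
  have key : ∀ h ∈ closure s, (∀ x ∈ C0, h x = x) ∧ (∀ x ∈ T', x⁻¹ * h x ∈ C0) ∧
      ∀ g, g⁻¹ * h g ∈ T' := by
    intro h hh
    induction hh using Subgroup.closure_induction with
    | mem h hh => exact ⟨h0 h hh, h1 h hh, h2 h hh⟩
    | one => simp
    | mul h k _ _ ih ik =>
      have hT : ∀ x ∈ T', h x ∈ T' := fun x hx => by
        have := T'.mul_mem hx (hC (ih.2.1 x hx))
        rwa [mul_inv_cancel_left] at this
      refine ⟨fun x hx => by rw [MulAut.mul_apply, ik.1 x hx, ih.1 x hx], fun x hx => ?_, fun g => ?_⟩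
      · have e : x⁻¹ * (h * k) x = (x⁻¹ * h x) * h (x⁻¹ * k x) := by
          rw [MulAut.mul_apply, map_mul, map_inv]; group
        rw [e, ih.1 _ (ik.2.1 x hx)]
        exact C0.mul_mem (ih.2.1 x hx) (ik.2.1 x hx)
      · have e : g⁻¹ * (h * k) g = (g⁻¹ * h g) * h (g⁻¹ * k g) := by
          rw [MulAut.mul_apply, map_mul, map_inv]; group
        rw [e]
        exact T'.mul_mem (ih.2.2 g) (hT _ (ik.2.2 g))
    | inv h _ ih =>
      have hT : ∀ x ∈ T', h⁻¹ x ∈ T' → x⁻¹ * h⁻¹ x ∈ C0 := fun x _ hy => by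
        have := C0.inv_mem (ih.2.1 _ hy)
        rw [← MulAut.mul_apply, mul_inv_cancel, MulAut.one_apply, mul_inv_rev, inv_inv] at this
        exact this
      have h3 : ∀ g, g⁻¹ * h⁻¹ g ∈ T' := fun g => by
        have := T'.inv_mem (ih.2.2 (h⁻¹ g))
        rwa [← MulAut.mul_apply, mul_inv_cancel, MulAut.one_apply, mul_inv_rev, inv_inv] at this
      refine ⟨fun x hx => ?_, fun x hx => hT x hx ?_, h3⟩
      · conv_lhs => rw [← ih.1 x hx, ← MulAut.mul_apply, inv_mul_cancel, MulAut.one_apply]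
      · have := T'.mul_mem hx (h3 x)
        rwa [mul_inv_cancel_left] at this
  obtain ⟨m, hm⟩ := IsPGroup.iff_card.1 hP
  intro ⟨h, hh⟩
  refine ⟨m + m, Subtype.ext ?_⟩
  show h ^ p ^ (m + m) = 1
  have hfix : ∀ x ∈ T', (h ^ p ^ m) x = x := fun x hx => by
    rw [pow_apply_fix ((key h hh).1 _ ((key h hh).2.1 x hx)), ← hm, pow_card_eq_one', mul_one]
  refine MulEquiv.ext fun g => ?_
  have hg : g⁻¹ * (h ^ p ^ m) g ∈ T' := (key _ ((closure s).pow_mem hh _)).2.2 g
  rw [pow_add, pow_mul, pow_apply_fix (hfix _ hg)]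
  rw [← hm, pow_card_eq_one', mul_one, MulAut.one_apply]

/-- The data of an involution inverting the quotient by `C0`. -/
structure Neg (C0 : Subgroup P) (t : MulAut P) : Prop where
  sq : t * t = 1
  fix : ∀ x ∈ C0, t x = x
  neg : ∀ g, g * t g ∈ C0

/-- The pair lemma. -/
theorem exists_neg (hP : IsPGroup p P) (hodd : Odd p) {T T' : Subgroup P} [T.Normal] [T'.Normal]
    (hT : T.index = p) (hT' : T'.index = p) {a b : MulAut P} (ha : ∀ x ∈ T, a x = x)
    (hb : ∀ x ∈ T', b x = x) (ha' : ∀ g, g⁻¹ * a g ∈ T) (hb' : ∀ g, g⁻¹ * b g ∈ T')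
    (hna : ¬ IsPGroup p (closure ({a, b} : Set (MulAut P)))) :
    T ≠ T' ∧ (∃ w, w⁻¹ * a w ∉ T ⊓ T') ∧
      ∃ t ∈ closure ({a, b} : Set (MulAut P)), Neg (T ⊓ T') t := by
  have hne : T ≠ T' := by
    rintro rfl
    refine hna (isPGroup_of_stab hP (C0 := T) (T' := T) le_rfl _ ?_ ?_ ?_)
    · rintro h (rfl | rfl) x hx; exacts [ha x hx, hb x hx]
    · rintro h (rfl | rfl) x hx; exacts [ha' x, hb' x]
    · rintro h (rfl | rfl) g; exacts [ha' g, hb' g]
  have wa : ∃ w, w⁻¹ * a w ∉ T ⊓ T' := by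
    by_contra! hall
    refine hna (isPGroup_of_stab hP (C0 := T ⊓ T') (T' := T') inf_le_right _ ?_ ?_ ?_)
    · rintro h (rfl | rfl) x hx; exacts [ha x hx.1, hb x hx.2]
    · rintro h (rfl | rfl) x hx
      exacts [hall x, by rw [hb x hx, inv_mul_cancel]; exact one_mem _]
    · rintro h (rfl | rfl) g; exacts [(hall g).2, hb' g]
  have wb : ∃ w, w⁻¹ * b w ∉ T ⊓ T' := by
    by_contra! hall
    refine hna (isPGroup_of_stab hP (C0 := T ⊓ T') (T' := T) inf_le_left _ ?_ ?_ ?_)
    · rintro h (rfl | rfl) x hx; exacts [ha x hx.1, hb x hx.2]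
    · rintro h (rfl | rfl) x hx
      exacts [by rw [ha x hx, inv_mul_cancel]; exact one_mem _, hall x]
    · rintro h (rfl | rfl) g; exacts [ha' g, (hall g).1]
  refine ⟨hne, wa, ?_⟩
  obtain ⟨f, fm, fk⟩ := exists_coord hT
  obtain ⟨f', fm', fk'⟩ := exists_coord hT'
  -- the off diagonal coefficients
  have coef : ∀ (U U' : Subgroup P) (u u' : P → ZMod p) (c : MulAut P), U.index = p →
      U'.index = p → U ≠ U' →
      (∀ x y, u (x * y) = u x + u y) → (∀ x, u x = 0 ↔ x ∈ U) →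
      (∀ x y, u' (x * y) = u' x + u' y) → (∀ x, u' x = 0 ↔ x ∈ U') →
      (∀ x ∈ U, c x = x) → (∀ g, g⁻¹ * c g ∈ U) →
      (∃ w, w⁻¹ * c w ∉ U ⊓ U') →
      ∃ l : ZMod p, l ≠ 0 ∧ ∀ g, u (c g) = u g ∧ u' (c g) = u' g + l * u g := by
    intro U U' u u' c hU hU' hUU um uk um' uk' hc hc' hw
    have hle : ¬ U' ≤ U := fun h => hUU (eq_of_le_of_card_ge h (by
      have h1 := U.card_mul_index
      have h2 := U'.card_mul_index
      rw [hU] at h1; rw [hU', ← h1] at h2
      exact (Nat.eq_of_mul_eq_mul_right hp.out.pos h2).ge)).symm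
    obtain ⟨w, hwU', hwU⟩ := SetLike.not_le_iff_exists.1 hle
    have D : ∀ g k, u' ((g * k)⁻¹ * c (g * k)) = u' (g⁻¹ * c g) + u' (k⁻¹ * c k) := by
      intro g k
      have hinv : u' k⁻¹ + u' k = 0 := by rw [← um', inv_mul_cancel]; exact (uk' 1).2 (one_mem _)
      rw [map_mul, show (g * k)⁻¹ * (c g * c k) = k⁻¹ * (g⁻¹ * c g) * k * (k⁻¹ * c k) by group,
        um', um', um']
      linear_combination hinv
    let dh : P →* Multiplicative (ZMod p) :=
      MonoidHom.mk' (fun g => Multiplicative.ofAdd (u' (g⁻¹ * c g))) fun g k => by rw [D]; rfl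
    have hu' : ∀ g, u' (c g) = u' g + u' (g⁻¹ * c g) := fun g => by
      rw [← um', mul_inv_cancel_left]
    have hu : ∀ g, u (c g) = u g := fun g => by
      calc u (c g) = u (g * (g⁻¹ * c g)) := by rw [mul_inv_cancel_left]
        _ = u g := by rw [um, (uk _).2 (hc' g), add_zero]
    set r : ZMod p := u' (w⁻¹ * c w) with hr
    have hDw : ∀ n : ℕ, u' ((w ^ n)⁻¹ * c (w ^ n)) = n * r ∧ u (w ^ n) = n * u w := by
      intro n
      induction n with
      | zero =>
        rw [pow_zero, inv_one, one_mul, map_one, (uk' 1).2 (one_mem _), (uk 1).2 (one_mem _)]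
        simp
      | succ n ih =>
        rw [pow_succ, D, um, ih.1, ih.2, ← hr]
        push_cast
        exact ⟨by ring, by ring⟩
    have hw0 : u w ≠ 0 := fun h => hwU ((uk w).1 h)
    have hall : ∀ g, u' (g⁻¹ * c g) = r * (u w)⁻¹ * u g := by
      intro g
      set n := (u g * (u w)⁻¹).val with hn
      have hn' : (n : ZMod p) = u g * (u w)⁻¹ := by
        haveI : NeZero p := ⟨hp.out.ne_zero⟩
        rw [hn, ZMod.natCast_zmod_val]
      have hk : (w ^ n)⁻¹ * g ∈ U := by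
        rw [← uk, um]
        have h1 : u (w ^ n)⁻¹ + u (w ^ n) = 0 := by
          rw [← um, inv_mul_cancel]; exact (uk 1).2 (one_mem _)
        rw [(hDw n).2, hn', mul_assoc, inv_mul_cancel₀ hw0, mul_one] at h1
        exact h1
      have h2 := D (w ^ n) ((w ^ n)⁻¹ * g)
      rw [mul_inv_cancel_left, hc _ hk, inv_mul_cancel, (uk' 1).2 (one_mem _), add_zero, (hDw n).1,
        hn'] at h2
      rw [h2]; ring
    refine ⟨r * (u w)⁻¹, fun h0 => ?_, fun g => ⟨hu g, by rw [hu', hall]⟩⟩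
    obtain ⟨v, hv⟩ := hw
    exact hv ⟨hc' v, (uk' _).1 (by rw [hall, h0, zero_mul])⟩
  obtain ⟨l, hl, hA⟩ := coef T T' f f' a hT hT' hne fm fk fm' fk' ha ha' wa
  obtain ⟨μ, hμ, hB⟩ := coef T' T f' f b hT' hT hne.symm fm' fk' fm fk hb hb'
    (by rw [inf_comm]; exact wb)
  haveI : NeZero p := ⟨hp.out.ne_zero⟩
  set k : ℕ := (-(l * μ)⁻¹).val with hk
  have hk' : (k : ZMod p) * μ * l = -1 := by
    rw [hk, ZMod.natCast_zmod_val]
    field_simp
  have hbk : ∀ (n : ℕ) g, f' ((b ^ n) g) = f' g ∧ f ((b ^ n) g) = f g + n * μ * f' g := by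
    intro n
    induction n with
    | zero => simp
    | succ n ih =>
      intro g
      rw [pow_succ', MulAut.mul_apply, (hB _).1, (hB _).2, (ih g).1, (ih g).2]
      push_cast
      exact ⟨rfl, by ring⟩
  set M := a * b ^ k * a with hM
  have hMg : ∀ g, f (M g) = k * μ * f' g ∧ f' (M g) = l * f g := by
    intro g
    rw [hM, MulAut.mul_apply, MulAut.mul_apply, (hA _).1, (hA _).2, (hbk k _).1, (hbk k _).2,
      (hA g).1, (hA g).2]
    refine ⟨?_, ?_⟩
    · linear_combination (f g) * hk'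
    · linear_combination (f' g + l * f g) * hk'
  have hMM : ∀ g, g * (M * M) g ∈ T ⊓ T' := fun g => by
    refine ⟨(fk _).1 ?_, (fk' _).1 ?_⟩
    · rw [fm, MulAut.mul_apply, (hMg _).1, (hMg g).2]
      linear_combination (f g) * hk'
    · rw [fm', MulAut.mul_apply, (hMg _).2, (hMg g).1]
      linear_combination (f' g) * hk'
  have hMfix : ∀ x ∈ T ⊓ T', M x = x := by
    intro x hx
    have hbn : ∀ n : ℕ, (b ^ n) x = x := fun n => by
      induction n with
      | zero => rfl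
      | succ n ih => rw [pow_succ', MulAut.mul_apply, ih, hb x hx.2]
    rw [hM, MulAut.mul_apply, MulAut.mul_apply, ha x hx.1, hbn, ha x hx.1]
  have hMmem : M * M ∈ closure ({a, b} : Set (MulAut P)) := by
    have h1 : a ∈ closure ({a, b} : Set (MulAut P)) := subset_closure (Or.inl rfl)
    have h2 : b ∈ closure ({a, b} : Set (MulAut P)) := subset_closure (Or.inr rfl)
    exact mul_mem (mul_mem (mul_mem h1 (pow_mem h2 _)) h1) (mul_mem (mul_mem h1 (pow_mem h2 _)) h1)
  set t0 := M * M with ht0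
  have t0fix : ∀ x ∈ T ⊓ T', t0 x = x := fun x hx => by
    rw [ht0, MulAut.mul_apply, hMfix x hx, hMfix x hx]
  obtain ⟨m, hm⟩ := IsPGroup.iff_card.1 hP
  obtain ⟨j, hj⟩ : Odd (p ^ m) := hodd.pow
  have hsq : ∀ g, g⁻¹ * (t0 * t0) g ∈ T ⊓ T' := fun g => by
    have h1 := hMM (t0 g)
    have h2 := hMM g
    rw [MulAut.mul_apply]
    have e : g⁻¹ * t0 (t0 g) = (g⁻¹ * (g * t0 g) * g⁻¹⁻¹)⁻¹ * (t0 g * t0 (t0 g)) := by group
    rw [e]
    exact mul_mem (inv_mem ((inferInstance : (T ⊓ T').Normal).conj_mem _ h2 _)) h1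
  have hsqfix : ∀ g, ((t0 * t0) ^ (p ^ m)) g = g := fun g => by
    rw [pow_apply_fix (by rw [MulAut.mul_apply, t0fix _ (hsq g), t0fix _ (hsq g)]), ← hm,
      pow_card_eq_one', mul_one]
  refine ⟨t0 ^ (p ^ m), pow_mem hMmem _, ⟨?_, ?_, ?_⟩⟩
  · rw [← (Commute.refl t0).mul_pow]
    exact MulEquiv.ext hsqfix
  · intro x hx
    have : ∀ n : ℕ, (t0 ^ n) x = x := fun n => by
      induction n with
      | zero => rfl
      | succ n ih => rw [pow_succ', MulAut.mul_apply, ih, t0fix x hx]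
    exact this _
  · intro g
    rw [hj, pow_succ', pow_mul, pow_two, MulAut.mul_apply]
    set y := ((t0 * t0) ^ j) g with hy
    have hgy : g⁻¹ * y ∈ T ⊓ T' := by
      rw [hy, pow_apply_fix (by rw [MulAut.mul_apply, t0fix _ (hsq g), t0fix _ (hsq g)]),
        inv_mul_cancel_left]
      exact pow_mem (hsq g) _
    have e : g * t0 y = (g * t0 g) * (g⁻¹ * y) := by
      conv_lhs => rw [show y = g * (g⁻¹ * y) by group, map_mul, t0fix _ hgy]
      group
    rw [e]
    exact mul_mem (hMM g) hgy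

variable {C0 : Subgroup P} {t : MulAut P}

/-- The fixed points of a negating involution. -/
theorem Neg.mem_of_fix (N : Neg C0 t) (hP : IsPGroup p P) (hodd : Odd p) {g : P} (hg : t g = g) :
    g ∈ C0 := by
  have h2 : g ^ 2 ∈ C0 := by
    have := N.neg g
    rwa [hg, ← pow_two] at this
  obtain ⟨m, hm⟩ := IsPGroup.iff_card.1 hP
  obtain ⟨j, hj⟩ : Odd (p ^ m) := hodd.pow
  have h3 : g ^ (2 * j + 1) ∈ C0 := by rw [← hj, ← hm, pow_card_eq_one']; exact one_mem _
  rw [pow_succ, pow_mul] at h3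
  exact (Subgroup.mul_mem_cancel_left C0 (pow_mem h2 j)).1 h3

/-- Every coset has an inverted representative, of order `p`, commuting with `C0`. -/
theorem Neg.exists_rep (N : Neg C0 t) [C0.Normal] (hP : IsPGroup p P) (hodd : Odd p)
    (hexp : ∀ g : P, g ^ p ∈ C0) (g : P) :
    ∃ n, t n = n⁻¹ ∧ n ^ p = 1 ∧ g⁻¹ * n ∈ C0 ∧ ∀ c ∈ C0, n * c = c * n := by
  set m := g⁻¹ * t g with hm
  have htm : t m = m⁻¹ := by
    rw [hm, map_mul, map_inv, ← MulAut.mul_apply, N.sq, MulAut.one_apply, mul_inv_rev, inv_inv]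
  obtain ⟨e, he⟩ := hodd
  have hgm : g ^ 2 * m ∈ C0 := by
    have : g ^ 2 * m = g * t g := by rw [hm, pow_two]; group
    rw [this]; exact N.neg g
  set n := m ^ e with hn
  have hgn : g⁻¹ * n ∈ C0 := by
    rw [← QuotientGroup.eq_one_iff, QuotientGroup.mk_mul, QuotientGroup.mk_inv, inv_mul_eq_one, hn,
      QuotientGroup.mk_pow]
    have h1 : (m : P ⧸ C0) = ((g : P ⧸ C0) ^ 2)⁻¹ := by
      rw [← QuotientGroup.mk_pow, eq_inv_iff_mul_eq_one]
      have := (QuotientGroup.eq_one_iff _).2 hgm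
      rw [QuotientGroup.mk_mul] at this
      rw [mul_eq_one_iff_eq_inv] at this ⊢
      rw [this, inv_inv]
    have h2 : (g : P ⧸ C0) ^ (2 * e + 1) = 1 := by
      rw [← he, ← QuotientGroup.mk_pow]
      exact (QuotientGroup.eq_one_iff _).2 (hexp g)
    rw [h1, inv_pow, ← pow_mul, eq_inv_iff_mul_eq_one, ← pow_succ', h2]
  have htn : t n = n⁻¹ := by rw [hn, map_pow, htm, inv_pow]
  have sqroot : ∀ x : P, x ^ 2 = 1 → x = 1 := fun x hx => by
    obtain ⟨m', hm'⟩ := IsPGroup.iff_card.1 hP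
    obtain ⟨j, hj⟩ : Odd (p ^ m') := (Nat.Prime.odd_of_ne_two hp.out (fun h => by omega)).pow
    have := pow_card_eq_one' (G := P) (x := x)
    rwa [hm', hj, pow_succ, pow_mul, hx, one_pow, one_mul] at this
  refine ⟨n, htn, ?_, hgn, fun c hc => ?_⟩
  · have h1 := N.fix _ (hexp n)
    rw [map_pow, htn, inv_pow, inv_eq_iff_mul_eq_one] at h1
    exact sqroot _ (by rw [pow_two]; exact h1)
  · -- `n²` commutes with `c`
    have h1 := N.fix _ (‹C0.Normal›.conj_mem c hc n)
    rw [map_mul, map_mul, map_inv, htn, N.fix c hc, inv_inv] at h1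
    have h2 : Commute (n ^ 2) c := by
      show n ^ 2 * c = c * n ^ 2
      calc n ^ 2 * c = n * (n * c * n⁻¹) * n := by rw [pow_two]; group
        _ = n * (n⁻¹ * c * n) * n := by rw [h1]
        _ = c * n ^ 2 := by rw [pow_two]; group
    obtain ⟨m', hm'⟩ := IsPGroup.iff_card.1 hP
    obtain ⟨j, hj⟩ : Odd (p ^ m') := (Nat.Prime.odd_of_ne_two hp.out (fun h => by omega)).pow
    have h3 : n = ((n ^ 2) ^ (j + 1)) := by
      rw [← pow_mul, show 2 * (j + 1) = (2 * j + 1) + 1 by ring, ← hj, ← hm', pow_succ,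
        pow_card_eq_one', one_mul]
    rw [h3]
    exact (h2.pow_left (j + 1)).eq

end Cfsg.Agent.FusRankThreeNormal
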