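import Cfsg.Agent.FusRankThreeNormal.Group

/-!
A group generated by a subgroup and two elements of order `p` centralising it: in sectional rank
three that subgroup is central, generated by the commutator of the two elements and one more element.
-/

set_option autoImplicit false
set_option linter.style.haveILetI false
set_option linter.unusedSectionVars false

namespace Cfsg.Agent.FusRankThreeNormal

open Cfsg Subgroup
open scoped commutatorElement

variable {p : ℕ} [hp : Fact p.Prime]

/-- A maximal subgroup is generated by any smaller one of index `p` in it and one more element. -/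
theorem sup_zpowers_eq {G : Type*} [Group G] [Finite G] {H T : Subgroup G} {g : G}
    (hHT : H ≤ T) (hi : H.relIndex T = p) (hg : g ∈ T) (hgH : g ∉ H) : H ⊔ zpowers g = T := by
  have h1 : H ⊔ zpowers g ≤ T := sup_le hHT (zpowers_le.2 hg)
  have h2 := relIndex_mul_relIndex H (H ⊔ zpowers g) T le_sup_left h1
  rw [hi] at h2
  rcases (Nat.dvd_prime hp.out).1 (Dvd.intro_left _ h2) with e | e
  · exact le_antisymm h1 (relIndex_eq_one.1 e)
  · rw [e, mul_eq_right₀ hp.out.ne_zero, relIndex_eq_one] at h2
    exact absurd (h2 (mem_sup_right (mem_zpowers g))) hgH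

/-- The structure. -/
theorem central_of_two {P : Type*} [Group P] [Finite P] (hPp : IsPGroup p P)
    (hsec : SectionalPRankLE p 3 P) {C0 T : Subgroup P} {n e : P} (hTgen : C0 ⊔ zpowers n = T)
    (hPgen : T ⊔ zpowers e = ⊤) (hnp1 : n ^ p = 1) (hep1 : e ^ p = 1)
    (hncom : ∀ c ∈ C0, n * c = c * n) (hecom : ∀ c ∈ C0, e * c = c * e) (hz'C : ⁅n, e⁆ ∈ C0)
    (hcard : Nat.card P = Nat.card C0 * p * p) :
    (∀ c ∈ C0, ∀ g : P, g * c = c * g) ∧
      ∃ c0 ∈ C0, (closure {⁅n, e⁆, c0} : Subgroup P) = C0 := by
  set z' := ⁅n, e⁆ with hz'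
  have hz'c : ∀ g : P, g * z' = z' * g := by
    intro g
    have hfix : T ⊔ zpowers e ≤ centralizer ({z'} : Set P) := by
      rw [← hTgen]
      refine sup_le (sup_le (fun c hc => mem_centralizer_singleton_iff.2 ?_) (zpowers_le.2
        (mem_centralizer_singleton_iff.2 (hncom _ hz'C)))) (zpowers_le.2
          (mem_centralizer_singleton_iff.2 (hecom _ hz'C)))
      exact ((show Commute c n from (hncom c hc).symm).mul_right (hecom c hc).symm |>.mul_right
        (show Commute c n from (hncom c hc).symm).inv_right |>.mul_right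
        (show Commute c e from (hecom c hc).symm).inv_right).eq
    exact mem_centralizer_singleton_iff.1 (hfix (hPgen.symm ▸ mem_top g))
  haveI hC0fin : Finite C0 := inferInstance
  set Φ0 := (frattini C0).map C0.subtype with hΦ0
  set N' := Φ0 ⊔ zpowers z' with hN'
  have hN'C : N' ≤ C0 := sup_le (map_subtype_le _) (zpowers_le.2 hz'C)
  have hΦmem : ∀ c ∈ C0, ∀ y ∈ Φ0, c * y * c⁻¹ ∈ Φ0 := by
    rintro c hc _ ⟨y, hy, rfl⟩
    exact ⟨⟨c, hc⟩ * y * ⟨c, hc⟩⁻¹, (inferInstance : (frattini C0).Normal).conj_mem y hy _, rfl⟩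
  have hN'n : N'.Normal := by
    refine normalizer_eq_top_iff.1 (eq_top_iff.2 ?_)
    rw [← hPgen, ← hTgen]
    have hfixall : ∀ g, (∀ c ∈ C0, g * c = c * g) → g ∈ normalizer (N' : Set P) := fun g hg =>
      mem_normalizer_fintype (S := (N' : Set P)) fun y hy => by
        rw [hg y (hN'C hy), mul_inv_cancel_right]; exact hy
    refine sup_le (sup_le (fun c hc => mem_normalizer_fintype (S := (N' : Set P)) fun y hy => ?_)
      (zpowers_le.2 (hfixall n hncom))) (zpowers_le.2 (hfixall e hecom))
    have : N' ≤ N'.comap (MulAut.conj c).toMonoidHom := by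
      refine sup_le (fun y hy => mem_sup_left (hΦmem c hc y hy)) (zpowers_le.2 ?_)
      show c * z' * c⁻¹ ∈ N'
      rw [hz'c c, mul_inv_cancel_right]
      exact mem_sup_right (mem_zpowers _)
    exact this hy
  have hN'comm : ∀ g k : P, ⁅g, k⁆ ∈ N' := by
    haveI := hN'n
    set q := QuotientGroup.mk' N'
    have hq : ∀ g k : P, q g * q k = q k * q g ↔ ⁅g, k⁆ ∈ N' := fun g k => by
      rw [← commutatorElement_eq_one_iff_mul_comm, ← map_commutatorElement]
      exact QuotientGroup.eq_one_iff _
    have gens : ∀ g k : P, (g ∈ C0 ∨ g = n ∨ g = e) → (k ∈ C0 ∨ k = n ∨ k = e) →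
        q g * q k = q k * q g := by
      intro g k hg hk
      rw [hq]
      rcases hg with hg | hg | hg <;> rcases hk with hk | hk | hk
      · refine mem_sup_left ?_
        haveI := (hPp.to_subgroup C0).isNilpotent
        exact ⟨⁅(⟨g, hg⟩ : C0), ⟨k, hk⟩⁆,
          Core.commutator_le_frattini (commutator_mem_commutator (mem_top _) (mem_top _)), rfl⟩
      all_goals first
        | (rw [hg, commutatorElement_eq_one_iff_mul_comm.2 (hncom k hk)]; exact one_mem _)
        | (rw [hg, commutatorElement_eq_one_iff_mul_comm.2 (hecom k hk)]; exact one_mem _)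
        | (rw [hk, commutatorElement_eq_one_iff_mul_comm.2 (hncom g hg).symm]; exact one_mem _)
        | (rw [hk, commutatorElement_eq_one_iff_mul_comm.2 (hecom g hg).symm]; exact one_mem _)
        | (rw [hg, hk, commutatorElement_self]; exact one_mem _)
        | (rw [hg, hk]; exact mem_sup_right (mem_zpowers _))
        | (rw [hg, hk, ← inv_mem_iff, commutatorElement_inv]; exact mem_sup_right (mem_zpowers _))
    have step : ∀ (X : P → Prop), (∀ g, (g ∈ C0 ∨ g = n ∨ g = e) → X g) →
        ∀ M : Subgroup P, (∀ g, X g → g ∈ M) → M = ⊤ := fun X hX M hM => eq_top_iff.2 (by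
      rw [← hPgen, ← hTgen]
      exact sup_le (sup_le (fun c hc => hM c (hX c (Or.inl hc)))
        (zpowers_le.2 (hM n (hX n (Or.inr (Or.inl rfl))))))
        (zpowers_le.2 (hM e (hX e (Or.inr (Or.inr rfl))))))
    intro g k
    rw [← hq]
    have h3 : ∀ g, (g ∈ C0 ∨ g = n ∨ g = e) → ∀ k, q g * q k = q k * q g := fun g hg k => by
      have htop := step _ (fun k hk => gens g k hg hk) ((centralizer {q g}).comap q)
        fun k hk => mem_centralizer_singleton_iff.2 hk.symm
      exact (mem_centralizer_singleton_iff.1 (mem_comap.1 (htop ▸ mem_top k))).symm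
    have htop := step _ (fun g hg => h3 g hg k) ((centralizer {q k}).comap q)
      fun g hg => mem_centralizer_singleton_iff.2 hg
    exact mem_centralizer_singleton_iff.1 (mem_comap.1 (htop ▸ mem_top g))
  have hN'pow : ∀ g : P, g ^ p ∈ N' := by
    intro g
    haveI := hN'n
    letI : CommGroup (P ⧸ N') :=
      { (inferInstance : Group (P ⧸ N')) with
        mul_comm := fun u v => by
          obtain ⟨u, rfl⟩ := QuotientGroup.mk'_surjective N' u
          obtain ⟨v, rfl⟩ := QuotientGroup.mk'_surjective N' v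
          rw [← commutatorElement_eq_one_iff_mul_comm, ← map_commutatorElement]
          exact (QuotientGroup.eq_one_iff _).2 (hN'comm u v) }
    have hker : (⊤ : Subgroup P) ≤ ((powMonoidHom p).comp (QuotientGroup.mk' N')).ker := by
      rw [← hPgen, ← hTgen]
      have h0 : ∀ v : P, v ^ p ∈ N' → v ∈ ((powMonoidHom p).comp (QuotientGroup.mk' N')).ker :=
        fun v hv => by
          rw [MonoidHom.mem_ker, MonoidHom.comp_apply, powMonoidHom_apply, ← map_pow]
          exact (QuotientGroup.eq_one_iff _).2 hv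
      refine sup_le (sup_le (fun c hc => h0 c (mem_sup_left ?_)) (zpowers_le.2 (h0 n ?_)))
        (zpowers_le.2 (h0 e ?_))
      · exact ⟨⟨c, hc⟩ ^ p, Core.pow_mem_frattini (hPp.to_subgroup C0) _, rfl⟩
      · rw [hnp1]; exact one_mem _
      · rw [hep1]; exact one_mem _
    have := hker (mem_top g)
    rw [MonoidHom.mem_ker, MonoidHom.comp_apply, powMonoidHom_apply, ← map_pow] at this
    exact (QuotientGroup.eq_one_iff _).1 this
  have hidxN : Nat.card C0 ≤ p * Nat.card N' := by
    have h3 := card_section_le hsec (le_top : N' ≤ ⊤)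
      (fun g _ y hy => hN'n.conj_mem y hy g) (fun g _ k _ => hN'comm g k) (fun g _ => hN'pow g)
    rw [card_top, hcard] at h3
    refine Nat.le_of_mul_le_mul_right ?_ (Nat.mul_pos hp.out.pos hp.out.pos)
    calc Nat.card C0 * (p * p) = Nat.card C0 * p * p := by ring
      _ ≤ _ := h3
      _ = p * Nat.card N' * (p * p) := by ring
  obtain ⟨c0, hc0C, hc0gen⟩ : ∃ c ∈ C0, N' ⊔ zpowers c = C0 := by
    by_cases hle : C0 ≤ N'
    · exact ⟨1, one_mem _, by rw [zpowers_one_eq_bot, sup_bot_eq]; exact le_antisymm hN'C hle⟩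
    obtain ⟨c, hc, hcN⟩ := SetLike.not_le_iff_exists.1 hle
    refine ⟨c, hc, sup_zpowers_eq (p := p) hN'C ?_ hc hcN⟩
    have e1 : Nat.card N' * N'.relIndex C0 = Nat.card C0 := by
      rw [← Nat.card_congr (subgroupOfEquivOfLe hN'C).toEquiv]
      exact card_mul_index _
    obtain ⟨i, hi⟩ := (hPp.to_subgroup C0).index (N'.subgroupOf C0)
    rw [show N'.relIndex C0 = p ^ i from hi] at e1 ⊢
    have h0 : i ≠ 0 := fun h0 => hle (relIndex_eq_one.1 (by
      rw [show N'.relIndex C0 = p ^ i from hi, h0, pow_zero]))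
    have h5 : p ^ i ≤ p ^ 1 := by
      rw [pow_one]
      refine Nat.le_of_mul_le_mul_left ?_ (Nat.card_pos (α := N'))
      rw [e1, mul_comm _ p]; exact hidxN
    have := (Nat.pow_le_pow_iff_right hp.out.one_lt).1 h5
    rw [show i = 1 by omega, pow_one]
  have hCcl : (closure {z', c0} : Subgroup P) = C0 := by
    have hle : (closure {z', c0} : Subgroup P) ≤ C0 := (closure_le _).2 (by
      rintro y (rfl | rfl); exacts [hz'C, hc0C])
    haveI := (hPp.to_subgroup C0).isNilpotent
    have h0 : ((closure {z', c0} : Subgroup P).subgroupOf C0) = ⊤ := by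
      refine Core.eq_top_of_sup_frattini le_rfl ?_
      refine map_injective C0.subtype_injective ?_
      rw [Subgroup.map_sup, map_subgroupOf_eq_of_le hle, ← MonoidHom.range_eq_map, range_subtype]
      refine le_antisymm (sup_le hle (map_subtype_le _)) ?_
      conv_lhs => rw [← hc0gen]
      refine sup_le (sup_le le_sup_right (zpowers_le.2 (mem_sup_left ?_))) (zpowers_le.2 (mem_sup_left ?_))
      exacts [Subgroup.subset_closure (Set.mem_insert _ _),
        Subgroup.subset_closure (Set.mem_insert_of_mem _ rfl)]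
    exact le_antisymm hle (subgroupOf_eq_top.1 h0)
  have hCcomm : ∀ c ∈ C0, ∀ g : P, g * c = c * g := by
    intro c hc g
    have h0 : ∀ y ∈ C0, y * c = c * y := by
      haveI : IsMulCommutative (closure {z', c0} : Subgroup P) := isMulCommutative_closure (by
        intro u hu v hv
        simp only [Set.mem_insert_iff, Set.mem_singleton_iff] at hu hv
        rcases hu with hu | hu <;> rcases hv with hv | hv <;> rw [hu, hv]
        exacts [(hz'c c0).symm, hz'c c0])
      intro y hy
      rw [← hCcl] at hy hc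
      exact congrArg Subtype.val (IsMulCommutative.is_comm.comm
        (⟨y, hy⟩ : (closure {z', c0} : Subgroup P)) ⟨c, hc⟩)
    have hfix : T ⊔ zpowers e ≤ centralizer ({c} : Set P) := by
      rw [← hTgen]
      exact sup_le (sup_le (fun y hy => mem_centralizer_singleton_iff.2 (h0 y hy)) (zpowers_le.2
        (mem_centralizer_singleton_iff.2 (hncom c hc)))) (zpowers_le.2
          (mem_centralizer_singleton_iff.2 (hecom c hc)))
    exact mem_centralizer_singleton_iff.1 (hfix (hPgen.symm ▸ mem_top g))
  exact ⟨hCcomm, c0, hc0C, hCcl⟩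

end Cfsg.Agent.FusRankThreeNormal
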