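import Cfsg.Agent.FusRankThreeNormal.CaseOne
import Cfsg.Agent.FusRankThreeNormal.CaseTwoA
import Cfsg.Agent.FusRankThreeNormal.CaseTwoB

/-!
Sectional rank three with all essential subgroups normal: the Sylow subgroup of `Sp₄(p)`.
-/

set_option autoImplicit false

namespace Cfsg.Agent.FusRankThreeNormal

open Cfsg Cfsg.FusionSystem Subgroup

universe u

variable {Ω : Type u} [Group Ω] {S : Subgroup Ω} {F : FusionSystem S} {p : ℕ}
variable [Finite S] [hp : Fact p.Prime]

/-- The theorem. -/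
theorem Hyp.isSp4Sylow (h : Hyp p F) : IsSp4Sylow p S := by
  by_cases hone : ∃ E B, Moved p F E ∧ F.IsEssential p B ∧ ¬ vOf p F E ≤ B
  · obtain ⟨E, B, hE, hB, hn⟩ := hone
    exact h.case_one hE.1 hB hE.2 hn
  push Not at hone
  have t : Two p F := ⟨h, fun E hE B hB => hone E B hE hB⟩
  by_cases hW : ∃ B, F.IsEssential p B ∧ ∃ a ∈ orb F B (pSub p F), ∃ b ∈ orb F B (pSub p F),
      a * b ≠ b * a
  · exact t.nonabelian hW
  · push Not at hW
    exact (t.abelian_false hW).elim

end Cfsg.Agent.FusRankThreeNormal
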