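import Cfsg.Agent.FusRankThreeNormal.Group
import Cfsg.Agent.FusSys.Criteria
import Cfsg.Agent.FusSys.Normal
import Cfsg.Agent.RankThreeEss.Lift
import Cfsg.Agent.Core.Solvable

/-!
The standing hypotheses (every essential subgroup is normal in `S`), invariant subgroups and the
first facts about them.
-/

set_option autoImplicit false
set_option linter.style.haveILetI false
set_option linter.unusedSectionVars false

namespace Cfsg.Agent.FusRankThreeNormal

open Cfsg Cfsg.FusionSystem Cfsg.Agent.FusSys Subgroup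
open scoped commutatorElement

universe u

variable {Ω : Type u} [Group Ω] {S : Subgroup Ω} {F : FusionSystem S} {E Q : Subgroup Ω} {p : ℕ}

/-! ### The action -/

theorem apl_map_mul (α : MulAut E) {x y : Ω} (hx : x ∈ E) (hy : y ∈ E) :
    apl α (x * y) = apl α x * apl α y := by
  rw [apl_apply α (E.mul_mem hx hy), apl_apply α hx, apl_apply α hy]
  exact congrArg Subtype.val (map_mul α (⟨x, hx⟩ : E) ⟨y, hy⟩)

theorem apl_map_one (α : MulAut E) : apl α 1 = 1 := by
  rw [apl_apply α E.one_mem]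
  exact congrArg Subtype.val (map_one α)

theorem apl_map_inv (α : MulAut E) {x : Ω} (hx : x ∈ E) : apl α x⁻¹ = (apl α x)⁻¹ := by
  rw [apl_apply α (E.inv_mem hx), apl_apply α hx]
  exact congrArg Subtype.val (map_inv α (⟨x, hx⟩ : E))

theorem apl_map_pow (α : MulAut E) {x : Ω} (hx : x ∈ E) (n : ℕ) :
    apl α (x ^ n) = apl α x ^ n := by
  rw [apl_apply α (E.pow_mem hx n), apl_apply α hx]
  exact congrArg Subtype.val (map_pow α (⟨x, hx⟩ : E) n)

theorem apl_map_comm (α : MulAut E) {x y : Ω} (hx : x ∈ E) (hy : y ∈ E) :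
    apl α ⁅x, y⁆ = ⁅apl α x, apl α y⁆ := by
  rw [commutatorElement_def, apl_map_mul α (E.mul_mem (E.mul_mem hx hy) (E.inv_mem hx)) (E.inv_mem hy),
    apl_map_mul α (E.mul_mem hx hy) (E.inv_mem hx), apl_map_mul α hx hy, apl_map_inv α hx,
    apl_map_inv α hy, commutatorElement_def]

theorem apl_injective (α : MulAut E) {x y : Ω} (hx : x ∈ E) (hy : y ∈ E)
    (h : apl α x = apl α y) : x = y := by
  have := congrArg (apl α⁻¹) h
  rwa [apl_inv_apl α hx, apl_inv_apl α hy] at this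

/-! ### Invariant and normal subgroups -/

/-- `Q` is kept by all automorphisms of the system on `E`. -/
def Inv (F : FusionSystem S) (E Q : Subgroup Ω) : Prop :=
  ∀ α ∈ F.autGroup E, ∀ x ∈ E, x ∈ Q → apl α x ∈ Q

/-- `S` normalises `Q`. -/
def Nor (S Q : Subgroup Ω) : Prop := ∀ s ∈ S, ∀ x ∈ Q, s * x * s⁻¹ ∈ Q

set_option linter.unusedVariables false in
theorem Inv.iff (h : Inv F E Q) {α : MulAut E} (hα : α ∈ F.autGroup E) {x : Ω} (hx : x ∈ E) :
    apl α x ∈ Q ↔ x ∈ Q :=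
  ⟨fun h' => by
    have := h α⁻¹ ((F.autGroup E).inv_mem hα) _ (apl_mem α hx) h'
    rwa [apl_inv_apl α hx] at this, h α hα x hx⟩

theorem Inv.inf {R : Subgroup Ω} (h : Inv F E Q) (h' : Inv F E R) : Inv F E (Q ⊓ R) :=
  fun α hα x hx hxQ => ⟨h α hα x hx hxQ.1, h' α hα x hx hxQ.2⟩

theorem inv_self : Inv F E E := fun α _ _ hx _ => apl_mem α hx

theorem inv_bot : Inv F E ⊥ := fun α _ x _ hx => by
  rw [mem_bot.1 hx, apl_map_one]; exact one_mem _

theorem Nor.mem_normalizer (h : Nor S Q) {s : Ω} (hs : s ∈ S) :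
    s ∈ normalizer (Q : Set Ω) :=
  mem_normalizer_iff.2 fun x => ⟨h s hs x, fun hx => by
    have := h s⁻¹ (S.inv_mem hs) _ hx
    rwa [show s⁻¹ * (s * x * s⁻¹) * s⁻¹⁻¹ = x by group] at this⟩

theorem Nor.le_normalizer (h : Nor S Q) : S ≤ normalizer (Q : Set Ω) := fun _ => h.mem_normalizer

theorem Nor.subgroupOf {H : Subgroup Ω} (h : Nor S Q) (hH : H ≤ S) : (Q.subgroupOf H).Normal :=
  ⟨fun x hx g => h g (hH g.2) _ hx⟩

theorem Nor.comm_mem (h : Nor S Q) {x s : Ω} (hx : x ∈ Q) (hs : s ∈ S) :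
    ⁅x, s⁆ ∈ Q ∧ ⁅s, x⁆ ∈ Q := by
  refine ⟨?_, ?_⟩
  · rw [show ⁅x, s⁆ = x * (s * x⁻¹ * s⁻¹) by rw [commutatorElement_def]; group]
    exact Q.mul_mem hx (h s hs _ (Q.inv_mem hx))
  · rw [show ⁅s, x⁆ = (s * x * s⁻¹) * x⁻¹ by rw [commutatorElement_def]]
    exact Q.mul_mem (h s hs x hx) (Q.inv_mem hx)

/-- The subgroup generated by the images of `Q`. -/
noncomputable def orb (F : FusionSystem S) (E Q : Subgroup Ω) : Subgroup Ω :=
  closure {y | ∃ α ∈ F.autGroup E, ∃ x ∈ E, x ∈ Q ∧ y = apl α x}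

theorem orb_le : orb F E Q ≤ E := (closure_le _).2 (by
  rintro _ ⟨α, -, x, hx, -, rfl⟩; exact apl_mem α hx)

theorem le_orb (hQ : Q ≤ E) : Q ≤ orb F E Q := fun x hx =>
  Subgroup.subset_closure ⟨1, one_mem _, x, hQ hx, hx, (apl_one (hQ hx)).symm⟩

theorem orb_le_of_inv {R : Subgroup Ω} (hR : Inv F E R) (hQ : Q ≤ R) : orb F E Q ≤ R :=
  (closure_le _).2 (by rintro _ ⟨α, hα, x, hx, hxQ, rfl⟩; exact hR α hα x hx (hQ hxQ))

theorem inv_orb : Inv F E (orb F E Q) := by
  intro α hα x _ hx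
  induction hx using Subgroup.closure_induction with
  | mem y hy =>
    obtain ⟨β, hβ, z, hz, hzQ, rfl⟩ := hy
    exact Subgroup.subset_closure ⟨α * β, mul_mem hα hβ, z, hz, hzQ, (apl_mul α β hz).symm⟩
  | one => rw [apl_map_one]; exact one_mem _
  | mul a b ha hb iha ihb =>
    rw [apl_map_mul α (orb_le ha) (orb_le hb)]
    exact mul_mem (iha (orb_le ha)) (ihb (orb_le hb))
  | inv a ha iha =>
    rw [apl_map_inv α (orb_le ha)]
    exact inv_mem (iha (orb_le ha))

/-! ### The centre -/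

/-- The elements of order dividing `p` of the centre of `S`. -/
def zOne (p : ℕ) (S : Subgroup Ω) : Subgroup Ω where
  carrier := {x | x ∈ S ∧ (∀ y ∈ S, x * y = y * x) ∧ x ^ p = 1}
  one_mem' := ⟨one_mem _, fun y _ => by rw [one_mul, mul_one], one_pow p⟩
  mul_mem' := by
    rintro a b ⟨ha, hac, hap⟩ ⟨hb, hbc, hbp⟩
    refine ⟨mul_mem ha hb, fun y hy => ?_, ?_⟩
    · rw [mul_assoc, hbc y hy, ← mul_assoc, hac y hy, mul_assoc]
    · rw [(show Commute a b from hac b hb).mul_pow, hap, hbp, one_mul]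
  inv_mem' := by
    rintro a ⟨ha, hac, hap⟩
    exact ⟨inv_mem ha, fun y hy => (show Commute a y from hac y hy).inv_left.eq,
      by rw [inv_pow, hap, inv_one]⟩

theorem mem_zOne {x : Ω} :
    x ∈ zOne p S ↔ x ∈ S ∧ (∀ y ∈ S, x * y = y * x) ∧ x ^ p = 1 := Iff.rfl

theorem zOne_le : zOne p S ≤ S := fun _ hx => hx.1

theorem nor_zOne : Nor S (zOne p S) := fun s hs x hx => by
  rw [← hx.2.1 s hs, mul_inv_cancel_right]; exact hx

theorem inv_zOne_top : Inv F S (zOne p S) := by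
  intro α hα x hx hxZ
  refine ⟨apl_mem α hx, fun y hy => ?_, by rw [← apl_map_pow α hx, hxZ.2.2, apl_map_one]⟩
  have h2 := congrArg (apl α) (hxZ.2.1 _ (apl_mem α⁻¹ hy))
  rwa [apl_map_mul α hx (apl_mem α⁻¹ hy), apl_map_mul α (apl_mem α⁻¹ hy) hx,
    apl_apl_inv α hy] at h2

/-! ### Sylow images -/

/-- The image of a Sylow subgroup is maximal among the `p`-subgroups of the image. -/
theorem image_sylow {G H : Type*} [Group G] [Group H] [Finite G] [Fact p.Prime] (φ : G →* H)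
    (R : Sylow p G) {K : Subgroup H} (hK : IsPGroup p K) (hle : (R : Subgroup G).map φ ≤ K)
    (hKr : K ≤ φ.range) : K = (R : Subgroup G).map φ := by
  let P := R.mapSurjective φ.rangeRestrict_surjective
  have h := P.3 (Q := K.subgroupOf φ.range) hK.comap_subtype (by
    rintro _ ⟨g, hg, rfl⟩
    exact hle ⟨g, hg, rfl⟩)
  refine le_antisymm (fun k hk => ?_) hle
  obtain ⟨g, hg, hgk⟩ := h.le (show (⟨k, hKr hk⟩ : φ.range) ∈ K.subgroupOf φ.range from hk)
  exact ⟨g, hg, congrArg Subtype.val hgk⟩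

/-! ### The hypotheses -/

/-- The standing hypotheses. -/
structure Hyp (p : ℕ) (F : FusionSystem S) : Prop where
  pS : IsPGroup p S
  odd : Odd p
  sat : F.IsSaturated p
  rank : SectionalPRankLE p 3 S
  notTwo : ¬ SectionalPRankLE p 2 S
  core : F.core = ⊥
  nor : ∀ E, F.IsEssential p E → S ≤ normalizer (E : Set Ω)

variable [Finite S] [hp : Fact p.Prime]

theorem three_le (hodd : Odd p) : 3 ≤ p := by
  rcases hodd with ⟨k, hk⟩
  have := hp.out.two_le
  omega

/-- A nontrivial subgroup normal in `S` meets the centre. -/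
theorem inf_zOne_ne_bot (hS : IsPGroup p S) (hQS : Q ≤ S) (hQ : Nor S Q) (hne : Q ≠ ⊥) :
    Q ⊓ zOne p S ≠ ⊥ := by
  haveI := hS.isNilpotent
  haveI := hQ.subgroupOf le_rfl
  have h1 : Q.subgroupOf S ⊓ center S ≠ ⊥ := Core.inf_center_ne_bot (fun h => hne (by
    rw [← map_subgroupOf_eq_of_le hQS, h, Subgroup.map_bot]))
  obtain ⟨z, hz, hz1⟩ := ((bot_or_exists_ne_one _).resolve_left h1)
  obtain ⟨k, hk⟩ := IsPGroup.iff_orderOf.1 hS z
  have hk0 : k ≠ 0 := fun h0 => hz1 (orderOf_eq_one_iff.1 (by rw [hk, h0, pow_zero]))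
  intro hbot
  set y : S := z ^ p ^ (k - 1) with hy
  have hy1 : y ≠ 1 := fun h => by
    have := orderOf_dvd_of_pow_eq_one h
    rw [hk, Nat.pow_dvd_pow_iff_le_right hp.out.one_lt] at this
    omega
  have hym : y ∈ Q.subgroupOf S ⊓ center S := pow_mem hz _
  have hyp : y ^ p = 1 := by
    rw [hy, ← pow_mul, ← pow_succ, show k - 1 + 1 = k by omega, ← hk, pow_orderOf_eq_one]
  refine hy1 (Subtype.ext (mem_bot.1 (hbot.le ⟨hym.1, y.2, fun w hw => ?_, ?_⟩)))
  · exact (congrArg Subtype.val (mem_center_iff.1 hym.2 ⟨w, hw⟩)).symm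
  · exact congrArg Subtype.val hyp

/-- A normal subgroup of prime order is central. -/
theorem le_zOne_of_card (hS : IsPGroup p S) (hQS : Q ≤ S) (hQ : Nor S Q) (hc : Nat.card Q = p) :
    Q ≤ zOne p S := by
  haveI := finite_of_le hQS
  have hne : Q ≠ ⊥ := fun h => by rw [h, card_bot] at hc; exact hp.out.one_lt.ne hc
  have h1 := inf_zOne_ne_bot hS hQS hQ hne
  obtain ⟨j, hj, hjc⟩ := (Nat.dvd_prime_pow hp.out).1
    (show Nat.card (Q ⊓ zOne p S : Subgroup Ω) ∣ p ^ 1 by
      rw [pow_one, ← hc]; exact card_dvd_of_le inf_le_left)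
  rcases Nat.eq_zero_or_pos j with rfl | hj0
  · exact absurd (card_eq_one.1 (hjc.trans (pow_zero p))) h1
  have := eq_of_le_of_card_ge (inf_le_left : Q ⊓ zOne p S ≤ Q) (by
    rw [hc, hjc, show j = 1 by omega, pow_one])
  exact inf_eq_left.1 this

namespace Hyp

variable (h : Hyp p F)
include h

theorem s_ne_bot : S ≠ ⊥ := by
  rintro rfl
  refine h.notTwo fun H N _ A _ _ => ?_
  haveI : Subsingleton (H ⧸ N) := (QuotientGroup.mk'_surjective N).subsingleton
  exact (Finite.card_le_one_iff_subsingleton.2 inferInstance).trans (Nat.one_le_pow _ _ hp.out.pos)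

theorem zOne_ne_bot : zOne p S ≠ ⊥ := fun e => by
  have := inf_zOne_ne_bot h.pS le_rfl (fun s hs x hx => S.mul_mem (S.mul_mem hs hx) (S.inv_mem hs))
    h.s_ne_bot
  rw [e, inf_bot_eq] at this
  exact this rfl

theorem zOne_le_ess (hE : F.IsEssential p E) : zOne p S ≤ E := fun z hz =>
  centric_self hE.1 ⟨hz.1, mem_centralizer_iff.2 fun x hx => (hz.2.1 x (hE.1.1 hx)).symm⟩

theorem nor_ess (hE : F.IsEssential p E) : Nor S E := fun _ hs x hx =>
  (mem_normalizer_iff.1 (h.nor E hE hs) x).1 hx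

theorem normalizerIn_eq (hE : F.IsEssential p E) : normalizerIn S E = S :=
  le_antisymm inf_le_left (le_inf le_rfl (h.nor E hE))

/-- Conjugation by an element of `S` as an automorphism of an essential subgroup. -/
theorem exists_conj (hE : F.IsEssential p E) {s : Ω} (hs : s ∈ S) :
    ∃ α ∈ autInducedBy S E, α ∈ F.autGroup E ∧ ∀ x ∈ E, apl α x = s * x * s⁻¹ := by
  obtain ⟨α, hα, hx⟩ := exists_mem_autInducedBy (P := E) hs (h.nor E hE hs)
  exact ⟨α, hα, autInducedBy_le_autGroup hE.1.1 hα, hx⟩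

theorem nor_of_inv (hE : F.IsEssential p E) (hQ : Q ≤ E) (hi : Inv F E Q) : Nor S Q :=
  fun s hs x hx => by
    obtain ⟨α, -, hα, hαx⟩ := h.exists_conj hE hs
    rw [← hαx x (hQ hx)]
    exact hi α hα x (hQ hx) hx

/-- Automorphisms normalising the ones induced by `S` extend to `S`. -/
theorem exists_ext (hE : F.IsEssential p E) {α : MulAut E} (hα : α ∈ F.autGroup E)
    (hn : ∀ γ ∈ autInducedBy S E, α * γ * α⁻¹ ∈ autInducedBy S E) :
    ∃ β ∈ F.autGroup S, ∀ a ∈ E, apl β a = apl α a := by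
  have key : ∀ M : Subgroup Ω, M = S → ∀ β ∈ F.autGroup M, (∀ a ∈ E, apl β a = apl α a) →
      ∃ β ∈ F.autGroup S, ∀ a ∈ E, apl β a = apl α a := by
    rintro M rfl β hβ hx; exact ⟨β, hβ, hx⟩
  obtain ⟨β, hβ, hx⟩ := RankThreeEss.exists_extension h.pS h.sat hE.2.1 hα hn
  exact key _ (h.normalizerIn_eq hE) β hβ hx

/-- Elements of `S` stabilising an invariant series of length two lie in the essential subgroup. -/
theorem mem_of_stab (hE : F.IsEssential p E) (hi : Inv F E Q) {x : Ω} (hx : x ∈ S)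
    (h1 : ∀ q ∈ E, q ∈ Q → x * q * x⁻¹ = q) (h2 : ∀ e ∈ E, e⁻¹ * (x * e * x⁻¹) ∈ Q) : x ∈ E := by
  let C : ℕ → Subgroup Ω := fun i => if i = 0 then ⊥ else if i = 1 then Q else ⊤
  have hmono : Monotone C := monotone_nat_of_le_succ fun i => by
    match i with
    | 0 => exact bot_le
    | 1 => exact le_top
    | k + 2 => exact le_rfl
  refine mem_of_chain h.pS hE.1 (essential_radical h.pS h.sat hE) hx (h.nor E hE hx) hmono
    (n := 2) (fun y _ => mem_top y) ?_ ?_ ?_
  · intro α hα i hi2 y hy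
    match i with
    | 0 => exact inv_bot.iff hα hy
    | 1 => exact hi.iff hα hy
    | 2 => exact iff_of_true (mem_top _) (mem_top _)
  · intro δ _ _ y _ hy0
    rw [mem_bot.1 hy0, apl_map_one]
  · intro i hi2 y hy hyC
    match i with
    | 0 => exact mem_bot.2 (by rw [h1 y hy hyC, inv_mul_cancel])
    | 1 => exact h2 y hy

/-- A subgroup kept on `S` and on every essential subgroup is trivial. -/
theorem eq_bot_of_inv (hQS : Q ≤ S) (hi : Inv F S Q)
    (he : ∀ B, F.IsEssential p B → Q ≤ B ∧ Inv F B Q) : Q = ⊥ := by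
  refine le_bot_iff.1 ((le_core ((isNormal_iff_essential h.pS h.sat).2 fun P hP => ?_)).trans h.core.le)
  rcases hP with rfl | hP
  · exact ⟨hQS, fun α hα => invariant_of_apl fun x hx => hi.iff hα hx⟩
  · exact ⟨(he P hP).1, fun α hα => invariant_of_apl fun x hx => (he P hP).2.iff hα hx⟩

/-- Invariance follows from invariance on `S` and under the conjugates of `Aut_S(E)`. -/
theorem inv_of_conjugates (hE : F.IsEssential p E) (hi : Inv F S Q)
    (hc : ∀ γ ∈ F.autGroup E, ∀ σ ∈ autInducedBy S E, ∀ x ∈ E, x ∈ Q →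
      apl (γ * σ * γ⁻¹) x ∈ Q) : Inv F E Q := by
  haveI := finite_of_le hE.1.1
  haveI : Finite (MulAut E) := Finite.of_injective _ MulEquiv.toEquiv_injective
  obtain ⟨-, R, hR⟩ := fullyAutomized_of_fullyNormalized h.pS h.sat hE.2.1
  let St : Submonoid (F.autGroup E) :=
    { carrier := {α | ∀ x ∈ E, x ∈ Q → apl (α : MulAut E) x ∈ Q}
      one_mem' := fun x hx hxQ => by rw [OneMemClass.coe_one, apl_one hx]; exact hxQ
      mul_mem' := fun {a b} ha hb x hx hxQ => by
        rw [Subgroup.coe_mul, apl_mul _ _ hx]; exact ha _ (apl_mem _ hx) (hb x hx hxQ) }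
  let St' : Subgroup (F.autGroup E) :=
    { St with
      inv_mem' := fun {x} hx => by
        have e : x⁻¹ = x ^ (orderOf x - 1) := by
          rw [inv_eq_iff_mul_eq_one, ← pow_succ', Nat.sub_add_cancel (orderOf_pos x),
            pow_orderOf_eq_one]
        show x⁻¹ ∈ St
        rw [e]
        exact St.pow_mem hx _ }
  set K := normalClosure ((R : Subgroup (F.autGroup E)) : Set (F.autGroup E)) with hK
  have hKle : K ≤ St' := by
    rw [hK, normalClosure, closure_le]
    intro y hy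
    obtain ⟨σ, hσ, hy'⟩ := Group.mem_conjugatesOfSet_iff.1 hy
    obtain ⟨γ, rfl⟩ := isConj_iff.1 hy'
    intro x hx hxQ
    rw [SetLike.mem_coe, hR] at hσ
    exact hc γ γ.2 σ hσ x hx hxQ
  have htop : normalizer ((R : Subgroup (F.autGroup E)) : Set (F.autGroup E)) ⊔ K = ⊤ :=
    Sylow.normalizer_sup_eq_top' R (subset_normalClosure)
  have hN : normalizer ((R : Subgroup (F.autGroup E)) : Set (F.autGroup E)) ≤ St' := by
    intro n hn x hx hxQ
    obtain ⟨β, hβ, hβx⟩ := h.exists_ext hE n.2 fun γ hγ => by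
      have hγ' : (⟨γ, autInducedBy_le_autGroup hE.1.1 hγ⟩ : F.autGroup E) ∈
          (R : Subgroup (F.autGroup E)) := by rw [hR]; exact hγ
      have := (mem_normalizer_iff.1 hn _).1 hγ'
      rw [hR] at this
      exact this
    rw [← hβx x hx]
    exact hi β hβ x (hE.1.1 hx) hxQ
  intro α hα x hx hxQ
  exact (sup_le hN hKle) (htop.symm ▸ mem_top (⟨α, hα⟩ : F.autGroup E)) x hx hxQ

/-- Elements of `S` outside an essential subgroup give conjugates generating a non-`p`-group. -/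
theorem exists_nonpgroup (hE : F.IsEssential p E) (hidx : ∀ {x}, x ∈ S → x ∉ E →
      ∀ s ∈ S, ∃ e ∈ E, ∃ n : ℕ, e * x ^ n = s) {x : Ω} (hx : x ∈ S) (hxE : x ∉ E) :
    ∃ a ∈ F.autGroup E, ∃ γ ∈ F.autGroup E, (∀ y ∈ E, apl a y = x * y * x⁻¹) ∧
      ¬ IsPGroup p (closure ({a, γ * a * γ⁻¹} : Set (MulAut E))) := by
  haveI := finite_of_le hE.1.1
  haveI : Finite (MulAut E) := Finite.of_injective _ MulEquiv.toEquiv_injective
  obtain ⟨a, ha, haF, hax⟩ := h.exists_conj hE hx
  by_contra! hall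
  set G := F.autGroup E with hG
  haveI hI : (innIn F E).Normal := innIn_normal F E
  obtain ⟨-, R, hR⟩ := fullyAutomized_of_fullyNormalized h.pS h.sat hE.2.1
  have hIp : IsPGroup p (innIn F E) := ((inn_eq_autInducedBy (P := E)).symm ▸
    isPGroup_autInducedBy (h.pS.to_le hE.1.1) : IsPGroup p (Inn E)).comap_subtype
  have hRgen : (R : Subgroup G) ≤ innIn F E ⊔ zpowers (⟨a, haF⟩ : G) := by
    intro r hr
    rw [hR] at hr
    obtain ⟨s, hs, -, hsx⟩ := mem_autInducedBy_iff.1 hr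
    obtain ⟨e, he, n, rfl⟩ := hidx hx hxE s hs
    obtain ⟨ε, hε, hεF, hεx⟩ := h.exists_conj hE (hE.1.1 he)
    have : r = ⟨ε, hεF⟩ * (⟨a, haF⟩ : G) ^ n := Subtype.ext (apl_ext fun y hy => by
      have hpow : ∀ m : ℕ, apl (a ^ m) y = x ^ m * y * (x ^ m)⁻¹ := fun m => by
        induction m with
        | zero => simp [apl_one hy]
        | succ m ih =>
          rw [pow_succ', apl_mul _ _ hy, hax _ (apl_mem _ hy), ih]
          group
      change apl (r : MulAut E) y = apl (ε * a ^ n) y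
      rw [show apl (r : MulAut E) y = _ from hsx y hy, apl_mul _ _ hy, hεx _ (apl_mem _ hy), hpow]
      group)
    rw [this]
    refine mul_mem (mem_sup_left ?_) (mem_sup_right (pow_mem (mem_zpowers _) n))
    show ε ∈ Inn E
    rw [inn_eq_autInducedBy]
    exact mem_autInducedBy_iff.2 ⟨e, he, Subgroup.le_normalizer he, hεx⟩
  have hconj : ∀ γ : G, γ * (⟨a, haF⟩ : G) * γ⁻¹ ∈ (R : Subgroup G) := by
    intro γ
    set H := closure ({(⟨a, haF⟩ : G), γ * ⟨a, haF⟩ * γ⁻¹} : Set G) with hH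
    have hHp : IsPGroup p H := by
      have h1 := hall a haF γ γ.2 hax
      intro ⟨w, hw⟩
      have hw' : (w : MulAut E) ∈
          closure ({a, (γ : MulAut E) * a * (γ : MulAut E)⁻¹} : Set (MulAut E)) := by
        have h2 := mem_map_of_mem G.subtype hw
        rw [hH, MonoidHom.map_closure, Set.image_pair] at h2
        exact h2
      obtain ⟨k, hk⟩ := h1 ⟨_, hw'⟩
      refine ⟨k, Subtype.ext (Subtype.ext ?_)⟩
      simpa using congrArg Subtype.val hk
    have hRle : (R : Subgroup G) ≤ innIn F E ⊔ H :=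
      hRgen.trans (sup_le_sup_left (zpowers_le.2 (Subgroup.subset_closure (Set.mem_insert _ _))) _)
    exact (R.3 (IsPGroup.to_sup_of_normal_left hIp hHp) hRle).le
      (mem_sup_right (Subgroup.subset_closure (Set.mem_insert_of_mem _ rfl)))
  have hN : (normalClosure {(⟨a, haF⟩ : G)}) ≤ (R : Subgroup G) := by
    rw [normalClosure, closure_le]
    intro y hy
    obtain ⟨_, rfl, hy'⟩ := Group.mem_conjugatesOfSet_iff.1 hy
    obtain ⟨γ, rfl⟩ := isConj_iff.1 hy'
    exact hconj γ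
  have hrad := (essential_radical h.pS h.sat hE).2
  refine hxE (mem_of_conj_mem_inn (centric_self hE.1) hE.1.1 hx hax ?_)
  rw [← hrad]
  exact ⟨⟨a, haF⟩, Core.le_pCore (R.2.to_le hN) (subset_normalClosure rfl), rfl⟩

end Hyp

end Cfsg.Agent.FusRankThreeNormal
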