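import Cfsg.Agent.FusRankThreeNormal.Common
import Cfsg.Agent.FusRankThreeNormal.TwoGen
import Cfsg.Agent.FusRankThreeNormal.Line

/-!
A moved socle of the centre lying outside some essential subgroup.
-/

set_option autoImplicit false
set_option linter.style.haveILetI false
set_option linter.unusedSectionVars false

namespace Cfsg.Agent.FusRankThreeNormal

open Cfsg Cfsg.FusionSystem Cfsg.Agent.FusSys Subgroup
open Cfsg.Agent.RankThreeEss (Elem)
open scoped commutatorElement

universe u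

variable {Ω : Type u} [Group Ω] {S : Subgroup Ω} {F : FusionSystem S} {p : ℕ}
variable [Finite S] [hp : Fact p.Prime]

set_option maxHeartbeats 1600000 in
/-- The first case. -/
theorem Hyp.case_one (h : Hyp p F) {E₁ E₂ : Subgroup Ω} (h1 : F.IsEssential p E₁)
    (h2 : F.IsEssential p E₂) (hmove : vOf p F E₁ ≠ zOne p S) (hnot : ¬ vOf p F E₁ ≤ E₂) :
    IsSp4Sylow p S := by
  classical
  have h1S := h1.1.1
  have h2S := h2.1.1
  haveI := finite_of_le h1S
  haveI := finite_of_le h2S
  obtain ⟨x, hxV, hxE₂⟩ := SetLike.not_le_iff_exists.1 hnot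
  have hx1 : x ∈ E₁ := vOf_le hxV
  have hxS : x ∈ S := h1S hx1
  have hxp : x ^ p = 1 := (h.vOf_central h1 hxV).2
  have hxc : ∀ y ∈ E₁, x * y = y * x := (h.vOf_central h1 hxV).1
  have hne21 : ¬ E₂ ≤ E₁ := fun hle => hxE₂ (by
    have e := eq_of_le_of_card_ge hle (Nat.eq_of_mul_eq_mul_left hp.out.pos
      ((h.card_eq h1).symm.trans (h.card_eq h2))).le
    rw [e]; exact hx1)
  -- the pair
  obtain ⟨a, ha, γ, hγ, hax, hnp⟩ := h.nonpgroup h2 hxS hxE₂
  set T : Subgroup E₂ := E₁.subgroupOf E₂ with hT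
  have hTi : T.index = p := h.inter_index h1 h2 hne21
  haveI hTn : T.Normal := (h.nor_ess h1).subgroupOf h2S
  have haval : ∀ y : E₂, ((a y : E₂) : Ω) = x * y * x⁻¹ := fun y =>
    (apl_coe a y).symm.trans (hax y y.2)
  have haT : ∀ y ∈ T, a y = y := fun y hy => Subtype.ext (by
    rw [haval, hxc _ (mem_subgroupOf.1 hy), mul_inv_cancel_right])
  have hamod : ∀ g, g⁻¹ * a g ∈ T := fun g => by
    show (g : Ω)⁻¹ * (a g : E₂) ∈ E₁
    rw [haval, show (g : Ω)⁻¹ * (x * g * x⁻¹) = ⁅(g : Ω)⁻¹, x⁆ by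
      rw [commutatorElement_def]; group]
    exact h.comm_mem_ess h1 (S.inv_mem (h2S g.2)) hxS
  set b := γ * a * γ⁻¹ with hb
  set T' := T.map γ.toMonoidHom with hT'
  haveI hT'n : T'.Normal := hTn.map _ γ.surjective
  have hT'i : T'.index = p := (index_map_equiv T γ).trans hTi
  have hbT : ∀ y ∈ T', b y = y := by
    rintro _ ⟨w, hw, rfl⟩
    show (γ * a * γ⁻¹) (γ w) = γ w
    rw [MulAut.mul_apply, MulAut.mul_apply, aut_inv_app, haT w hw]
  have hbmod : ∀ g, g⁻¹ * b g ∈ T' := fun g => ⟨(γ⁻¹ g)⁻¹ * a (γ⁻¹ g), hamod _, by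
    show γ ((γ⁻¹ g)⁻¹ * a (γ⁻¹ g)) = _
    rw [map_mul, map_inv, aut_app_inv]
    rfl⟩
  have hPp : IsPGroup p E₂ := h.pS.to_le h2S
  obtain ⟨hTT, ⟨w, hw⟩, t, -, N⟩ := exists_neg hPp h.odd hTi hT'i haT hbT hamod hbmod hnp
  set C0 := T ⊓ T' with hC0
  have hpowC : ∀ g : E₂, g ^ p ∈ C0 := fun g => by
    refine ⟨?_, ?_⟩
    · have := pow_index_mem T g; rwa [hTi] at this
    · have := pow_index_mem T' g; rwa [hT'i] at this
  have hrel : C0.relIndex T = p := by
    have hd : T'.relIndex T ∣ p := hT'i ▸ relIndex_dvd_index_of_normal _ _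
    rw [hC0, inf_relIndex_left]
    rcases (Nat.dvd_prime hp.out).1 hd with e | e
    · exact absurd (eq_of_le_of_card_ge (relIndex_eq_one.1 e) (by
        rw [hT', card_map_of_injective (f := γ.toMonoidHom) γ.injective])) hTT
    · exact e
  obtain ⟨u, huT, huC⟩ : ∃ u ∈ T, u ∉ C0 := by
    by_contra! hall
    rw [relIndex_eq_one.2 hall] at hrel
    exact hp.out.one_lt.ne hrel
  obtain ⟨n, -, hnp1, hnu, hncom⟩ := N.exists_rep hPp h.odd hpowC u
  obtain ⟨e, -, hep1, hew, hecom⟩ := N.exists_rep hPp h.odd hpowC w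
  have hnT : n ∈ T := by
    have := T.mul_mem huT hnu.1
    rwa [mul_inv_cancel_left] at this
  have hnC : n ∉ C0 := fun hn => huC (by
    have := C0.mul_mem hn (C0.inv_mem hnu)
    rwa [mul_inv_rev, inv_inv, mul_inv_cancel_left] at this)
  -- `a` moves `e` outside `C0`
  set d := a e * e⁻¹ with hd
  have hdC : d ∉ C0 := fun hdc => hw (by
    have hc0 : w⁻¹ * e ∈ C0 := hew
    have e1 : w⁻¹ * a w = (w⁻¹ * e) * (e⁻¹ * d * e⁻¹⁻¹) * (w⁻¹ * e)⁻¹ := by
      have e2 : a w = a e * (w⁻¹ * e)⁻¹ := by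
        conv_lhs => rw [show w = e * (w⁻¹ * e)⁻¹ by group, map_mul, map_inv, haT _ hc0.1]
      rw [e2, hd]
      group
    rw [e1]
    exact C0.mul_mem (C0.mul_mem hc0 ((inferInstance : C0.Normal).conj_mem _ hdc _))
      (C0.inv_mem hc0))
  have heT : e ∉ T := fun he => hdC (by rw [hd, haT e he, mul_inv_cancel]; exact one_mem _)
  have hTgen : C0 ⊔ zpowers n = T := sup_zpowers_eq inf_le_left hrel hnT hnC
  have hPgen : T ⊔ zpowers e = ⊤ :=
    sup_zpowers_eq le_top (by rw [relIndex_top_right, hTi]) (mem_top e) heT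
  -- `C0` is `⟨k⟩` times the commutator of `n` and `e`, and central
  set z' := ⁅n, e⁆ with hz'
  have hcomC : ∀ g k : E₂, ⁅g, k⁆ ∈ C0 := by
    have key : ∀ (M : Subgroup E₂) [M.Normal], M.index = p → ∀ g k : E₂, ⁅g, k⁆ ∈ M := by
      intro M _ hM g k
      haveI : IsCyclic (E₂ ⧸ M) := isCyclic_of_prime_card (p := p) (by rw [← index_eq_card, hM])
      letI := IsCyclic.commGroup (α := E₂ ⧸ M)
      rw [← QuotientGroup.eq_one_iff, ← QuotientGroup.mk'_apply, map_commutatorElement,
        commutatorElement_eq_one_iff_mul_comm]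
      exact mul_comm _ _
    exact fun g k => ⟨key T hTi g k, key T' hT'i g k⟩
  have hz'C : z' ∈ C0 := hcomC n e
  obtain ⟨hCcomm, c0, hc0C, hCcl⟩ := central_of_two hPp (sectional_of_le h2S h.rank) hTgen hPgen
    hnp1 hep1 hncom hecom hz'C (by
      have hPc := T.card_mul_index
      have hTc : Nat.card C0 * C0.relIndex T = Nat.card T := by
        rw [← Nat.card_congr (subgroupOfEquivOfLe (inf_le_left : C0 ≤ T)).toEquiv]
        exact card_mul_index _
      rw [hTi, ← hTc, hrel] at hPc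
      exact hPc.symm)
  have hz'c : ∀ g : E₂, g * z' = z' * g := hCcomm z' hz'C
  -- back in the ambient group
  set C : Subgroup Ω := C0.map E₂.subtype with hC
  have hCS : ∀ c ∈ C, c ∈ S ∧ ∀ s ∈ S, c * s = s * c := by
    rintro _ ⟨c, hc, rfl⟩
    refine ⟨h2S c.2, fun s hs => ?_⟩
    obtain ⟨g, hg, j, rfl⟩ := h.exists_mul h2 hxS hxE₂ s hs
    have h5 : Commute (c : Ω) x := (hxc _ (mem_subgroupOf.1 hc.1)).symm
    have h6 : Commute (c : Ω) g := (congrArg Subtype.val (hCcomm c hc ⟨g, hg⟩)).symm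
    exact (h6.mul_right (h5.pow_right j)).eq
  set z : Ω := ⁅x, (e : Ω)⁆ with hz
  have hzd : z = (d : Ω) := by
    rw [hz, hd, commutatorElement_def, Subgroup.coe_mul, Subgroup.coe_inv, haval]
  have hzV : z ∈ vOf p F E₁ := ((h.nor_vOf h1).comm_mem hxV (h2S e.2)).1
  have hzp : z ^ p = 1 := (h.vOf_central h1 hzV).2
  have hzc : ∀ y ∈ E₁, z * y = y * z := (h.vOf_central h1 hzV).1
  have hdT : d ∈ T := by
    show (d : Ω) ∈ E₁
    rw [← hzd]; exact vOf_le hzV
  have hzC : z ∉ C := by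
    rintro ⟨y, hy, hyz⟩
    rw [hzd] at hyz
    exact hdC (Subtype.ext hyz ▸ hy)
  set TT : Subgroup Ω := C ⊔ zpowers z with hTT'
  have hTmap : T.map E₂.subtype = TT := by
    have hTd : C0 ⊔ zpowers d = T := sup_zpowers_eq inf_le_left hrel hdT hdC
    rw [← hTd, Subgroup.map_sup, MonoidHom.map_zpowers, coe_subtype, ← hzd]
  have hTTmem : ∀ y, y ∈ E₁ → y ∈ E₂ → y ∈ TT := fun y hy1 hy2 =>
    hTmap ▸ ⟨⟨y, hy2⟩, hy1, rfl⟩
  have hTTE : TT ≤ E₁ ∧ TT ≤ E₂ := by
    rw [← hTmap]
    exact ⟨by rintro _ ⟨y, hy, rfl⟩; exact hy, map_subtype_le _⟩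
  set A : Subgroup Ω := TT ⊔ zpowers x with hA
  have hA1 : A = E₁ := by
    refine le_antisymm (sup_le hTTE.1 (zpowers_le.2 hx1)) fun s hs => ?_
    obtain ⟨g, hg, j, rfl⟩ := h.exists_mul h2 hxS hxE₂ s (h1S hs)
    have hg1 : g ∈ E₁ := by
      have := E₁.mul_mem hs (E₁.inv_mem (E₁.pow_mem hx1 j))
      rwa [mul_inv_cancel_right] at this
    exact mul_mem_sup (hTTmem g hg1 hg) (pow_mem (mem_zpowers x) j)
  have hE1comm : ∀ u ∈ E₁, ∀ v ∈ E₁, u * v = v * u := by
    intro u hu v hv
    have hle : A ≤ centralizer ({v} : Set Ω) := sup_le (sup_le (fun c hc =>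
      mem_centralizer_singleton_iff.2 ((hCS c hc).2 v (h1S hv)))
      (zpowers_le.2 (mem_centralizer_singleton_iff.2 (hzc v hv))))
      (zpowers_le.2 (mem_centralizer_singleton_iff.2 (hxc v hv)))
    exact mem_centralizer_singleton_iff.1 (hle (hA1 ▸ hu))
  -- orders
  haveI := finite_of_le (hTTE.2.trans h2S)
  have hCle : C ≤ S := fun c hc => (hCS c hc).1
  haveI := finite_of_le hCle
  obtain ⟨m0, hm0⟩ := IsPGroup.iff_card.1 (h.pS.to_le hCle)
  have hC0card : Nat.card C0 = Nat.card C :=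
    (card_map_of_injective E₂.subtype_injective).symm
  have hE2card : Nat.card E₂ = Nat.card C * p * p := by
    have hPc := T.card_mul_index
    have hTc : Nat.card C0 * C0.relIndex T = Nat.card T := by
      rw [← Nat.card_congr (subgroupOfEquivOfLe (inf_le_left : C0 ≤ T)).toEquiv]
      exact card_mul_index _
    rw [hTi, ← hTc, hrel, hC0card] at hPc
    exact hPc.symm
  have hScard : Nat.card S = p ^ (m0 + 3) := by
    rw [h.card_eq h2, hE2card, hm0]; ring
  -- `C` is cyclic
  set z'' : Ω := (z' : Ω) with hz''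
  have hz''C : z'' ∈ C := ⟨z', hz'C, rfl⟩
  have hz'p : z'' ^ p = 1 := by
    have e1 : z' ^ p = 1 := by
      have hcz : ∀ g : E₂, g * z' = z' * g := hz'c
      have e2 : ∀ j : ℕ, n ^ j * e * (n ^ j)⁻¹ = z' ^ j * e := fun j => by
        induction j with
        | zero => simp
        | succ j ih =>
          calc n ^ (j + 1) * e * (n ^ (j + 1))⁻¹ = n * (n ^ j * e * (n ^ j)⁻¹) * n⁻¹ := by
                rw [pow_succ']; group
            _ = n * z' ^ j * (e * n⁻¹) := by rw [ih]; group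
            _ = z' ^ j * (n * e * n⁻¹) := by
              rw [(show Commute n (z' ^ j) from (show Commute n z' from hcz n).pow_right j).eq]; group
            _ = z' ^ (j + 1) * e := by rw [pow_succ, hz', commutatorElement_def]; group
      have e3 := e2 p
      rw [hnp1, one_mul, inv_one, mul_one, eq_comm, mul_eq_right] at e3
      exact e3
    rw [hz'', ← SubgroupClass.coe_pow, e1]; rfl
  obtain ⟨c, hcC, hcgen⟩ : ∃ c ∈ C, C = zpowers c := by
    by_cases h0 : z'' = 1
    · refine ⟨(c0 : Ω), ⟨c0, hc0C, rfl⟩, ?_⟩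
      rw [hC, ← hCcl, MonoidHom.map_closure, Set.image_pair, coe_subtype, ← hz'', h0,
        closure_insert_one, ← zpowers_eq_closure]
    set cΩ : Ω := (c0 : Ω) with hcΩ
    have hcC : cΩ ∈ C := ⟨c0, hc0C, rfl⟩
    have hclo : C = zpowers z'' ⊔ zpowers cΩ := by
      rw [hC, ← hCcl, MonoidHom.map_closure, Set.image_pair, coe_subtype, ← hz'', ← hcΩ,
        ← Set.union_singleton, Subgroup.closure_union, ← zpowers_eq_closure, ← zpowers_eq_closure,
        sup_comm]
    have hzE : z ∈ E₁ := vOf_le hzV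
    obtain ⟨k, hk⟩ := IsPGroup.iff_orderOf.1 (h.pS.to_le hCle) ⟨cΩ, hcC⟩
    rw [Subgroup.orderOf_mk] at hk
    rcases Nat.eq_zero_or_pos k with rfl | hk0
    · refine ⟨z'', hz''C, ?_⟩
      rw [pow_zero, orderOf_eq_one_iff] at hk
      rw [hclo, hk, zpowers_one_eq_bot, sup_bot_eq]
    set y := cΩ ^ p ^ (k - 1) with hy
    have hyC : y ∈ C := C.pow_mem hcC _
    have hyp : y ^ p = 1 := by
      rw [hy, ← pow_mul, ← pow_succ, show k - 1 + 1 = k by omega, ← hk, pow_orderOf_eq_one]
    have hy1 : y ≠ 1 := fun e1 => by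
      have := orderOf_dvd_of_pow_eq_one e1
      rw [hk, Nat.pow_dvd_pow_iff_le_right hp.out.one_lt] at this
      omega
    refine ⟨cΩ, hcC, ?_⟩
    have hzy : z'' ∈ zpowers cΩ := by
      by_contra hno
      -- an elementary abelian subgroup of order `p⁴`
      set y' : E₁ := ⟨y, by
        have := hTTE.1 (mem_sup_left hyC)
        exact this⟩
      have helem0 : Elem p (⊥ : Subgroup E₁) := RankThreeEss.elem_bot
      have hall : ∀ u v : E₁, u * v = v * u := fun u v => Subtype.ext (hE1comm u u.2 v v.2)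
      obtain ⟨he1, hc1⟩ := helem0.extend (x := y') (Subtype.ext hyp) (fun _ _ => hall _ _)
        (fun hm => hy1 (congrArg Subtype.val (mem_bot.1 hm)))
      set zz : E₁ := ⟨z'', hTTE.1 (mem_sup_left hz''C)⟩
      obtain ⟨he2, hc2⟩ := he1.extend (x := zz) (Subtype.ext hz'p) (fun _ _ => hall _ _) (fun hm => by
        rw [bot_sup_eq] at hm
        obtain ⟨i, hi⟩ := hm
        refine hno ?_
        rw [show z'' = y ^ i from (congrArg Subtype.val hi).symm, hy]
        exact zpow_mem (pow_mem (mem_zpowers _) _) i)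
      set z1 : E₁ := ⟨z, hzE⟩
      obtain ⟨he3, hc3⟩ := he2.extend (x := z1) (Subtype.ext hzp) (fun _ _ => hall _ _) (fun hm => by
        refine hzC ?_
        have hle : ((⊥ : Subgroup E₁) ⊔ zpowers y' ⊔ zpowers zz) ≤ C.subgroupOf E₁ :=
          sup_le (sup_le bot_le (zpowers_le.2 hyC)) (zpowers_le.2 hz''C)
        exact hle hm)
      set x1 : E₁ := ⟨x, hx1⟩
      obtain ⟨he4, hc4⟩ := he3.extend (x := x1) (Subtype.ext hxp) (fun _ _ => hall _ _) (fun hm => by
        refine hxE₂ (hTTE.2 ?_)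
        have hle : ((⊥ : Subgroup E₁) ⊔ zpowers y' ⊔ zpowers zz ⊔ zpowers z1) ≤ TT.subgroupOf E₁ :=
          sup_le (sup_le (sup_le bot_le (zpowers_le.2 (mem_sup_left hyC)))
            (zpowers_le.2 (mem_sup_left hz''C))) (zpowers_le.2 (mem_sup_right (mem_zpowers z)))
        exact hle hm)
      have h5 := card_elem_le (sectional_of_le h1S h.rank) he4
      rw [card_bot] at hc1
      have h6 : p ^ 4 ≤ p ^ 3 := by
        calc p ^ 4 = 1 * p * p * p * p := by ring
          _ ≤ _ := ((Nat.mul_le_mul_right _ ((Nat.mul_le_mul_right _ ((Nat.mul_le_mul_right _ hc1).trans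
            hc2)).trans hc3)).trans hc4).trans h5
      exact absurd ((Nat.pow_le_pow_iff_right hp.out.one_lt).1 h6) (by norm_num)
    rw [hclo]
    exact le_antisymm (sup_le (zpowers_le.2 hzy) le_rfl) le_sup_right
  have hm : orderOf c = p ^ m0 := by rw [← Nat.card_zpowers, ← hcgen, hm0]
  -- decomposition of `S`
  have heS : (e : Ω) ∈ S := h2S e.2
  have hSdec : ∀ s ∈ S, ∃ l i k r : ℕ, s = c ^ l * ((e : Ω) ^ i * z ^ k * x ^ r) := by
    intro s hs
    obtain ⟨g, hg, r, rfl⟩ := h.exists_mul h2 hxS hxE₂ s hs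
    obtain ⟨y, hy, i, hyi⟩ := exists_mul_npow (A := T) (g := e)
      (by rw [normalizer_eq_top T]; exact mem_top _) (hPgen.symm ▸ mem_top (⟨g, hg⟩ : E₂))
    have hyTT : (y : Ω) ∈ TT := hTmap ▸ ⟨y, hy, rfl⟩
    haveI : Finite TT := finite_of_le (hTTE.2.trans h2S)
    have hy' : e ^ i * (e ^ i)⁻¹ * y * (e ^ i) = y * e ^ i := by group
    set y1 := (e ^ i)⁻¹ * y * (e ^ i) with hy1d
    have hy1 : y1 ∈ T := by
      have := hTn.conj_mem y hy (e ^ i)⁻¹
      rwa [inv_inv] at this
    have hg' : g = ((e ^ i * y1 : E₂) : Ω) := by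
      rw [show e ^ i * y1 = y * e ^ i by rw [hy1d]; group, hyi]
    have hy1T : (y1 : Ω) ∈ TT := hTmap ▸ ⟨y1, hy1, rfl⟩
    obtain ⟨cc', hcc', k, hk⟩ := exists_mul_zpow (A := C) (g := z)
      (mem_normalizer_iff.2 fun w => by
        have hzS : z ∈ S := h1S (vOf_le hzV)
        refine ⟨fun hw => ?_, fun hw => ?_⟩
        · rw [← (hCS w hw).2 z hzS, mul_inv_cancel_right]; exact hw
        · have e1 := (hCS _ hw).2 z hzS
          have e2 : z * w * z⁻¹ = w := by
            have e3 : w * z = z * w := by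
              calc w * z = z⁻¹ * ((z * w * z⁻¹) * z) * z := by group
                _ = z⁻¹ * (z * (z * w * z⁻¹)) * z := by rw [e1]
                _ = z * w := by group
            rw [← e3, mul_inv_cancel_right]
          rwa [e2] at hw)
      hy1T
    obtain ⟨k', hk'⟩ : ∃ k' : ℕ, z ^ k' = z ^ k :=
      (isOfFinOrder_iff_pow_eq_one.2 ⟨p, hp.out.pos, hzp⟩).mem_powers_iff_mem_zpowers.2
        (zpow_mem (mem_zpowers z) k)
    obtain ⟨l, hl⟩ : ∃ l : ℕ, c ^ l = cc' := by
      have hfin : IsOfFinOrder c := isOfFinOrder_iff_pow_eq_one.2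
        ⟨p ^ m0, pow_pos hp.out.pos _, hm ▸ pow_orderOf_eq_one c⟩
      exact hfin.mem_powers_iff_mem_zpowers.2 (hcgen ▸ hcc')
    refine ⟨l, i, k', r, ?_⟩
    rw [hg', Subgroup.coe_mul, SubgroupClass.coe_pow, ← hk, ← hl, ← hk', ← mul_assoc,
      ← (hCS _ (C.pow_mem hcC l)).2 _ (S.pow_mem heS i)]
    group
  -- conjugation by `e`
  have hex : (e : Ω) * x * (e : Ω)⁻¹ = z⁻¹ * x := by
    rw [hz, commutatorElement_def]; group
  set w'' : Ω := ⁅(e : Ω), z⁆ with hw''
  have hw''C : w'' ∈ C := by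
    refine ⟨⁅e, d⁆, hcomC e d, ?_⟩
    rw [hw'', hzd]; rfl
  have hw''p : ∃ j : ℕ, z'' ^ j = w'' ∧ (z'' ≠ 1 → w'' ≠ 1) := by
    obtain ⟨c1, hc1, j, hj⟩ := exists_mul_npow (A := C0) (g := n)
      (by rw [normalizer_eq_top C0]; exact mem_top _) (hTgen.symm ▸ hdT)
    have e1 : ∀ i : ℕ, ⁅n ^ i, e⁆ = z' ^ i := fun i => by
      induction i with
      | zero => simp
      | succ i ih =>
        have e2 : ⁅n ^ (i + 1), e⁆ = n * ⁅n ^ i, e⁆ * n⁻¹ * ⁅n, e⁆ := by
          rw [pow_succ']; simp only [commutatorElement_def]; group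
        rw [e2, ih, (show Commute n (z' ^ i) from (show Commute n z' from hz'c n).pow_right i).eq,
          mul_inv_cancel_right, pow_succ, hz']
    have e3 : ⁅e, d⁆ = (z' ^ j)⁻¹ := by
      rw [← hj, ← e1 j, commutatorElement_inv]
      have hce : e * c1 = c1 * e := hCcomm c1 hc1 e
      calc ⁅e, c1 * n ^ j⁆ = (e * c1) * n ^ j * e⁻¹ * (n ^ j)⁻¹ * c1⁻¹ := by
            rw [commutatorElement_def]; group
        _ = c1 * ⁅e, n ^ j⁆ * c1⁻¹ := by rw [hce, commutatorElement_def]; group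
        _ = ⁅e, n ^ j⁆ := by rw [← hCcomm c1 hc1, mul_inv_cancel_right]
    obtain ⟨j', hj'⟩ : ∃ j' : ℕ, z'' ^ j' = (z'' ^ j)⁻¹ :=
      (isOfFinOrder_iff_pow_eq_one.2 ⟨p, hp.out.pos, hz'p⟩).mem_powers_iff_mem_zpowers.2
        (inv_mem (pow_mem (mem_zpowers z'') j))
    have e4 : w'' = (z'' ^ j)⁻¹ := by
      rw [hw'', hzd, hz'', ← SubgroupClass.coe_pow, ← Subgroup.coe_inv, ← e3]; rfl
    refine ⟨j', hj'.trans e4.symm, fun hne h0 => ?_⟩
    rw [e4, inv_eq_one] at h0
    have hdvd : p ∣ j := by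
      by_contra hnd
      refine hne ?_
      obtain ⟨u, v, huv⟩ : IsCoprime (j : ℤ) (p : ℤ) := Int.isCoprime_iff_nat_coprime.2 (by
        simpa using ((Nat.Prime.coprime_iff_not_dvd hp.out).2 hnd).symm)
      rw [← zpow_one z'', ← huv, zpow_add, mul_comm u, mul_comm v, zpow_mul, zpow_natCast, h0,
        one_zpow, zpow_mul, zpow_natCast, hz'p, one_zpow, one_mul]
    obtain ⟨q, hq⟩ := hdvd
    refine hdC ?_
    rw [← hj, hq, pow_mul, hnp1, one_pow, mul_one]; exact hc1
  -- the second factor has `p`-th powers in `⟨z''⟩`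
  have hpowmod : ∀ i k r : ℕ, ((e : Ω) ^ i * z ^ k * x ^ r) ^ p ∈ zpowers z'' := by
    haveI hNn : ((zpowers z'').subgroupOf S).Normal := ⟨fun y hy g => by
      have h0 : (g : Ω) * y * (g : Ω)⁻¹ = y := by
        rw [← (hCS _ ((zpowers_le.2 hz''C) (show (y : Ω) ∈ zpowers z'' from hy))).2 g g.2, mul_inv_cancel_right]
      show (g : Ω) * y * (g : Ω)⁻¹ ∈ zpowers z''
      rw [h0]; exact hy⟩
    set q := QuotientGroup.mk' ((zpowers z'').subgroupOf S)
    set qe := q ⟨e, heS⟩
    set qz := q ⟨z, h1S (vOf_le hzV)⟩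
    set qx := q ⟨x, hxS⟩
    set H := closure ({qe, qz, qx} : Set _) with hH
    have hq1 : ∀ u : S, q u = 1 ↔ (u : Ω) ∈ zpowers z'' := fun u => QuotientGroup.eq_one_iff u
    have hzx : qz * qx = qx * qz := by
      rw [← map_mul, ← map_mul]; exact congrArg q (Subtype.ext (hzc x hx1))
    have hze : qe * qz = qz * qe := by
      rw [← commutatorElement_eq_one_iff_mul_comm, ← map_commutatorElement, hq1]
      obtain ⟨j, hj, -⟩ := hw''p
      show w'' ∈ _
      rw [← hj]; exact pow_mem (mem_zpowers _) j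
    have hxe : ⁅qx, qe⁆ = qz := by rw [← map_commutatorElement]; rfl
    have hzcen : ∀ g ∈ H, qz * g = g * qz := fun g hg =>
      (mem_centralizer_singleton_iff.1 (((closure_le _).2 (by
        rintro w (rfl | rfl | rfl) <;> rw [SetLike.mem_coe, mem_centralizer_singleton_iff]
        exacts [hze, hzx.symm]) : H ≤ centralizer ({qz} : Set _)) hg)).symm
    have gmem : ∀ w ∈ ({qe, qz, qx} : Set _), w ∈ H := fun w hw => Subgroup.subset_closure hw
    set g1 : H := ⟨qe, gmem _ (Or.inl rfl)⟩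
    set g2 : H := ⟨qz, gmem _ (Or.inr (Or.inl rfl))⟩
    set g3 : H := ⟨qx, gmem _ (Or.inr (Or.inr rfl))⟩
    have hcl : closure ({g1, g2, g3} : Set H) = ⊤ := by
      refine map_injective H.subtype_injective ?_
      rw [MonoidHom.map_closure, ← MonoidHom.range_eq_map, range_subtype]
      simp only [Set.image_insert_eq, Set.image_singleton, coe_subtype]
      exact hH.symm
    have hcc : RankThreeEss.CommCentral H := by
      refine RankThreeEss.commCentral_of_gens hcl ?_
      have c2 : ∀ g : H, g2 * g = g * g2 := fun g => Subtype.ext (hzcen g g.2)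
      rintro u (rfl | rfl | rfl) v (rfl | rfl | rfl) g
      all_goals first
        | (rw [commutatorElement_self, one_mul, mul_one])
        | (rw [commutatorElement_eq_one_iff_mul_comm.2 (c2 _).symm, one_mul, mul_one])
        | (rw [commutatorElement_eq_one_iff_mul_comm.2 (c2 _), one_mul, mul_one])
        | (rw [show ⁅g3, g1⁆ = g2 from Subtype.ext hxe]; exact c2 g)
        | (rw [← commutatorElement_inv g3 g1, show ⁅g3, g1⁆ = g2 from Subtype.ext hxe]
           exact ((show Commute g2 g from c2 g).inv_left).eq)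
    have hexp : ∀ g : H, g ^ p = 1 := fun g =>
      exponent_p_of_gens h.odd (s := ({g1, g2, g3} : Set H)) (H := ⊤) hcl (by
        rintro w (rfl | rfl | rfl) <;>
          refine Subtype.ext ?_ <;> show q _ ^ p = 1 <;> rw [← map_pow, hq1]
        · show (e : Ω) ^ p ∈ _
          rw [← SubgroupClass.coe_pow, hep1]; exact one_mem _
        · show z ^ p ∈ _
          rw [hzp]; exact one_mem _
        · show x ^ p ∈ _
          rw [hxp]; exact one_mem _)
        (fun u _ v _ w _ => hcc u v w) g (mem_top g)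
    intro i k r
    have := congrArg Subtype.val (hexp (g1 ^ i * g2 ^ k * g3 ^ r))
    simp only [SubgroupClass.coe_pow, Subgroup.coe_mul, OneMemClass.coe_one] at this
    change (qe ^ i * qz ^ k * qx ^ r) ^ p = 1 at this
    rw [← map_pow, ← map_pow, ← map_pow, ← map_mul, ← map_mul, ← map_pow, hq1] at this
    exact this
  rcases Nat.lt_or_ge m0 1 with hm0' | hm0'
  · -- order `p³`
    obtain rfl : m0 = 0 := by omega
    refine absurd (h.comm_of_card_cube hScard x hxS e heS) fun hxe => hzC ?_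
    rw [hz, commutatorElement_eq_one_iff_mul_comm.2 hxe]; exact one_mem _
  rcases Nat.lt_or_ge m0 2 with hm0'' | hm0''
  · obtain rfl : m0 = 1 := by omega
    have hcp : ∀ y ∈ C, y ^ p = 1 := fun y hy => by
      have := pow_card_eq_one' (G := C) (x := ⟨y, hy⟩)
      rw [hm0, pow_one] at this
      exact congrArg Subtype.val this
    have hTTp : ∀ y ∈ TT, y ∈ S ∧ y ^ p = 1 := by
      intro y hy
      refine ⟨h1S (hTTE.1 hy), ?_⟩
      obtain ⟨c1, hc1, k, rfl⟩ := exists_mul_zpow (A := C) (g := z)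
        (mem_normalizer_fintype (S := (C : Set Ω)) fun w hw => by
          rw [← (hCS w hw).2 z (h1S (vOf_le hzV)), mul_inv_cancel_right]; exact hw) hy
      rw [((show Commute c1 z from (hCS c1 hc1).2 z (h1S (vOf_le hzV))).zpow_right k).mul_pow,
        hcp c1 hc1, ← zpow_natCast, ← zpow_mul, mul_comm, zpow_mul, zpow_natCast, hzp, one_zpow,
        one_mul]
    have helA : Elem p E₁ := ⟨hE1comm, fun y hy => by
      rw [← hA1] at hy
      obtain ⟨t1, ht1, r, rfl⟩ := exists_mul_zpow (A := TT) (g := x)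
        (mem_normalizer_fintype (S := (TT : Set Ω)) fun w hw => by
          rw [← (hE1comm w (hTTE.1 hw) x hx1), mul_inv_cancel_right]; exact hw) hy
      rw [((show Commute t1 x from hE1comm t1 (hTTE.1 ht1) x hx1).zpow_right r).mul_pow,
        (hTTp t1 ht1).2, ← zpow_natCast, ← zpow_mul, mul_comm, zpow_mul, zpow_natCast, hxp,
        one_zpow, one_mul]⟩
    have hE1c : Nat.card E₁ = p ^ 3 := by
      refine Nat.eq_of_mul_eq_mul_left hp.out.pos ?_
      rw [← h.card_eq h1, hScard]; ring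
    by_cases hz0 : z'' = 1
    · -- the line lemma
      exfalso
      have hTTcen : ∀ y ∈ TT, ∀ s ∈ S, y * s = s * y := by
        intro y hy s hs
        have hzcS : ∀ s ∈ S, z * s = s * z := by
          intro s hs
          obtain ⟨l, i, k, r, rfl⟩ := hSdec s hs
          obtain ⟨j, hj, -⟩ := hw''p
          have hze : Commute z (e : Ω) := by
            rw [hz0, one_pow] at hj
            exact (commutatorElement_eq_one_iff_mul_comm.1 hj.symm).symm
          have hzc' : Commute z c := ((hCS c hcC).2 z (h1S (vOf_le hzV))).symm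
          exact ((hzc'.pow_right l).mul_right (((hze.pow_right i).mul_right
            ((Commute.refl z).pow_right k)).mul_right
              ((show Commute z x from hzc x hx1).pow_right r))).eq
        have hle : TT ≤ centralizer ({s} : Set Ω) := sup_le
          (fun c1 hc1 => mem_centralizer_singleton_iff.2 ((hCS c1 hc1).2 s hs))
          (zpowers_le.2 (mem_centralizer_singleton_iff.2 (hzcS s hs)))
        exact mem_centralizer_singleton_iff.1 (hle hy)
      have hTTZ : TT ≤ zOne p S := fun y hy => ⟨(hTTp y hy).1, hTTcen y hy, (hTTp y hy).2⟩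
      have hTTc : Nat.card TT = p ^ 2 := by
        have hTc : Nat.card C0 * C0.relIndex T = Nat.card T := by
          rw [← Nat.card_congr (subgroupOfEquivOfLe (inf_le_left : C0 ≤ T)).toEquiv]
          exact card_mul_index _
        rw [← hTmap, card_map_of_injective E₂.subtype_injective, ← hTc, hrel, hC0card, hm0]
        ring
      have hexpS : ∀ s ∈ S, s ^ p = 1 := by
        intro s hs
        obtain ⟨l, i, k, r, rfl⟩ := hSdec s hs
        have h0 := hpowmod i k r
        rw [hz0, zpowers_one_eq_bot, mem_bot] at h0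
        rw [(show Commute (c ^ l) _ from (hCS _ (C.pow_mem hcC l)).2 _
          (S.mul_mem (S.mul_mem (S.pow_mem heS i) (S.pow_mem (h1S (vOf_le hzV)) k))
            (S.pow_mem hxS r))).mul_pow, h0, hcp _ (C.pow_mem hcC l), one_mul]
      have hZTT : zOne p S = TT := by
        refine le_antisymm ?_ hTTZ
        haveI := finite_of_le (zOne_le (p := p) (S := S))
        by_contra hle
        obtain ⟨s, hsZ, hsT⟩ := SetLike.not_le_iff_exists.1 hle
        have heq : TT ⊔ zpowers s = E₁ := by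
          refine eq_of_le_of_card_ge (sup_le hTTE.1 (zpowers_le.2 (h.zOne_le_ess h1 hsZ))) ?_
          have helT : Elem p (TT.subgroupOf S) := ⟨fun u hu v hv => Subtype.ext
            (hTTcen u hu v v.2), fun u hu => Subtype.ext (hTTp u hu).2⟩
          obtain ⟨-, hcs⟩ := helT.extend (x := ⟨s, hsZ.1⟩) (Subtype.ext hsZ.2.2)
            (fun u hu => Subtype.ext (hsZ.2.1 u u.2)) hsT
          rw [Nat.card_congr (subgroupOfEquivOfLe (hTTE.1.trans h1S)).toEquiv, hTTc] at hcs
          rw [hE1c]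
          refine (le_of_eq (by ring)).trans (hcs.trans (le_of_eq ?_))
          have hzs : (zpowers s).subgroupOf S = zpowers (⟨s, hsZ.1⟩ : S) := by
            refine map_injective S.subtype_injective ?_
            rw [map_subgroupOf_eq_of_le (zpowers_le.2 hsZ.1), MonoidHom.map_zpowers]
            rfl
          rw [← Nat.card_congr (subgroupOfEquivOfLe (sup_le (hTTE.1.trans h1S)
            (zpowers_le.2 hsZ.1))).toEquiv, subgroupOf_sup (hTTE.1.trans h1S) (zpowers_le.2 hsZ.1), hzs]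
        have hle1 : E₁ ≤ zOne p S := heq ▸ sup_le hTTZ (zpowers_le.2 hsZ)
        exact hzC (by rw [hz, commutatorElement_eq_one_iff_mul_comm.2 ((hle1 hx1).2.1 e heS)]
                      exact one_mem _)
      have hzS : z ∈ S := h1S (vOf_le hzV)
      have hz1 : z ≠ 1 := fun e1 => hzC (e1 ▸ one_mem _)
      set L := zpowers z with hLdef
      have hzTT : z ∈ TT := mem_sup_right (mem_zpowers z)
      have hder : ∀ u ∈ S, ∀ v ∈ S, ⁅u, v⁆ ∈ L := by
        haveI : (L.subgroupOf S).Normal := ⟨fun y hy g => by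
          have h0 : (g : Ω) * y * (g : Ω)⁻¹ = y := by
            rw [← hTTcen _ ((zpowers_le.2 hzTT) (show (y : Ω) ∈ zpowers z from hy)) g g.2, mul_inv_cancel_right]
          show (g : Ω) * y * (g : Ω)⁻¹ ∈ L
          rw [h0]; exact hy⟩
        set q := QuotientGroup.mk' (L.subgroupOf S)
        have hqz : q ⟨z, hzS⟩ = 1 := (QuotientGroup.eq_one_iff _).2 (mem_zpowers z)
        have hqc : ∀ v, q ⟨c, (hCS c hcC).1⟩ * q v = q v * q ⟨c, (hCS c hcC).1⟩ := fun v => by
          rw [← map_mul, ← map_mul]; exact congrArg q (Subtype.ext ((hCS c hcC).2 v v.2))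
        have hxe : q ⟨x, hxS⟩ * q ⟨e, heS⟩ = q ⟨e, heS⟩ * q ⟨x, hxS⟩ := by
          rw [← commutatorElement_eq_one_iff_mul_comm, ← map_commutatorElement]
          exact (QuotientGroup.eq_one_iff _).2 (mem_zpowers z)
        have hgen : ∀ u : S, ∀ a : S ⧸ L.subgroupOf S, Commute (q ⟨e, heS⟩) a →
            Commute (q ⟨x, hxS⟩) a → Commute (q ⟨c, (hCS c hcC).1⟩) a → Commute (q u) a := by
          intro u a he hx' hc'
          obtain ⟨l, i, k, r, hu⟩ := hSdec u u.2
          have hu' : u = ⟨c, (hCS c hcC).1⟩ ^ l * (⟨e, heS⟩ ^ i * ⟨z, hzS⟩ ^ k * ⟨x, hxS⟩ ^ r) :=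
            Subtype.ext hu
          rw [hu', map_mul, map_mul, map_mul, map_pow, map_pow, map_pow, map_pow, hqz, one_pow, mul_one]
          exact (hc'.pow_left l).mul_left ((he.pow_left i).mul_left (hx'.pow_left r))
        intro u hu v hv
        have h0 : Commute (q ⟨u, hu⟩) (q ⟨v, hv⟩) := hgen _ _
          (hgen _ _ (Commute.refl _) hxe (hqc _)).symm
          (hgen _ _ hxe.symm (Commute.refl _) (hqc _)).symm
          (hqc _)
        have h1 : ⁅q ⟨u, hu⟩, q ⟨v, hv⟩⁆ = 1 := commutatorElement_eq_one_iff_mul_comm.2 h0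
        rw [← map_commutatorElement] at h1
        exact (QuotientGroup.eq_one_iff (N := L.subgroupOf S) (⁅(⟨u, hu⟩ : S), (⟨v, hv⟩ : S)⁆)).1 h1
      refine h.line_false (Z := TT) (L := L) hTTZ hTTc (hZTT ▸ inv_zOne_top) (zpowers_le.2 hzTT)
        (by rw [hLdef, Nat.card_zpowers, orderOf_eq_prime hzp hz1]) ?_ fun B hB => Or.inr ⟨B, ?_⟩
      · intro β hβ y hy hyL
        obtain ⟨i, rfl⟩ := hyL
        have hbz : apl β z ∈ L := by
          rw [hz, apl_map_comm β hxS heS]
          exact hder _ (apl_mem β hxS) _ (apl_mem β heS)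
        obtain ⟨i', hi'⟩ := (isOfFinOrder_iff_pow_eq_one.2 ⟨p, hp.out.pos, hzp⟩).mem_powers_iff_mem_zpowers.2
          (zpow_mem (mem_zpowers z) i)
        change z ^ i' = z ^ i at hi'
        show apl β (z ^ i) ∈ L
        rw [← hi', apl_map_pow β hzS]
        exact pow_mem hbz i'
      · have hTB : TT ≤ B := hTTZ.trans (h.zOne_le_ess hB)
        haveI := finite_of_le hB.1.1
        have hBc : Nat.card B = p ^ 3 := by
          refine Nat.eq_of_mul_eq_mul_left hp.out.pos ?_
          rw [← h.card_eq hB, hScard]; ring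
        obtain ⟨g, hgB, hgT⟩ := SetLike.not_le_iff_exists.1 (show ¬ B ≤ TT from fun hle => by
          have := card_le_of_le hle
          rw [hBc, hTTc] at this
          exact absurd ((Nat.pow_le_pow_iff_right hp.out.one_lt).1 this) (by norm_num))
        have hTgB : TT.subgroupOf B ⊔ zpowers ⟨g, hgB⟩ = ⊤ := by
          refine sup_zpowers_eq (p := p) le_top ?_ (mem_top _) hgT
          rw [relIndex_top_right]
          have e1 := (TT.subgroupOf B).card_mul_index
          rw [Nat.card_congr (subgroupOfEquivOfLe hTB).toEquiv, hTTc, hBc,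
            show p ^ 3 = p ^ 2 * p by ring] at e1
          exact Nat.eq_of_mul_eq_mul_left (pow_pos hp.out.pos 2) e1
        have hBcomm : ∀ u ∈ B, ∀ v ∈ B, u * v = v * u := by
          intro u hu v hv
          have key : ∀ a : B, (∀ y ∈ TT.subgroupOf B, y * a = a * y) →
              (⟨g, hgB⟩ : B) * a = a * ⟨g, hgB⟩ → ∀ y : B, y * a = a * y := fun a h1 h2 y =>
            mem_centralizer_singleton_iff.1 ((sup_le
              (fun y hy => mem_centralizer_singleton_iff.2 (h1 y hy))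
              (zpowers_le.2 (mem_centralizer_singleton_iff.2 h2)) :
              TT.subgroupOf B ⊔ zpowers (⟨g, hgB⟩ : B) ≤ centralizer ({a} : Set B))
              (hTgB.symm ▸ mem_top y))
          have hcenT : ∀ y ∈ TT.subgroupOf B, ∀ a : B, y * a = a * y := fun y hy a =>
            Subtype.ext (hTTcen y hy a (hB.1.1 a.2))
          have hg0 := key ⟨g, hgB⟩ (fun y hy => hcenT y hy _) rfl
          exact congrArg Subtype.val (key ⟨v, hv⟩ (fun y hy => hcenT y hy _)
            (hg0 ⟨v, hv⟩).symm ⟨u, hu⟩)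
        exact
          { inv := inv_self
            le := le_rfl
            zle := hTB
            card := hBc
            elem := ⟨hBcomm, fun y hy => hexpS y (hB.1.1 hy)⟩
            cent := fun s hs hc => centric_self hB.1 ⟨hs, mem_centralizer_iff.2 fun v hv => (hc v hv).symm⟩
            cen := hBcomm
            comm := fun s hs v hv => hder s hs v (hB.1.1 hv) }
    · -- the model
      refine h.model h1S (h.nor_ess h1) helA hE1c (a := (e : Ω)) heS heT
        (by rw [← SubgroupClass.coe_pow, hep1]; rfl) hScard hCle (by rw [hm0, pow_one]) fun y hy hey => ?_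
      rw [← hA1] at hy
      obtain ⟨t1, ht1, r, rfl⟩ := exists_mul_zpow (A := TT) (g := x)
        (mem_normalizer_fintype (S := (TT : Set Ω)) fun w hw => by
          rw [← (hE1comm w (hTTE.1 hw) x hx1), mul_inv_cancel_right]; exact hw) hy
      obtain ⟨c1, hc1, k, rfl⟩ := exists_mul_zpow (A := C) (g := z)
        (mem_normalizer_fintype (S := (C : Set Ω)) fun w hw => by
          rw [← (hCS w hw).2 z (h1S (vOf_le hzV)), mul_inv_cancel_right]; exact hw) ht1
      obtain ⟨k', hk'⟩ : ∃ k' : ℕ, z ^ k' = z ^ k :=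
        (isOfFinOrder_iff_pow_eq_one.2 ⟨p, hp.out.pos, hzp⟩).mem_powers_iff_mem_zpowers.2
          (zpow_mem (mem_zpowers z) k)
      obtain ⟨r', hr'⟩ : ∃ r' : ℕ, x ^ r' = x ^ r :=
        (isOfFinOrder_iff_pow_eq_one.2 ⟨p, hp.out.pos, hxp⟩).mem_powers_iff_mem_zpowers.2
          (zpow_mem (mem_zpowers x) r)
      rw [← hk', ← hr'] at hey ⊢
      have hc1e : (e : Ω) * c1 * (e : Ω)⁻¹ = c1 := by
        rw [← (hCS c1 hc1).2 e heS, mul_inv_cancel_right]
      have hzz : z * w'' = w'' * z := ((hCS _ hw''C).2 z (h1S (vOf_le hzV))).symm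
      have hez : (e : Ω) * z * (e : Ω)⁻¹ = w'' * z := by rw [hw'', commutatorElement_def]; group
      have hconj : (e : Ω) * (c1 * z ^ k' * x ^ r') * (e : Ω)⁻¹ =
          c1 * (w'' * z) ^ k' * (z⁻¹ * x) ^ r' := by
        rw [← hez, ← hex, conj_pow, conj_pow]
        conv_rhs => rw [← hc1e]
        group
      rw [hey, mul_inv_cancel_right, (show Commute w'' z from hzz.symm).mul_pow,
        ((show Commute z x from hzc x hx1).inv_left).mul_pow] at hconj
      have hwc : c1 * z ^ k' * x ^ r' = w'' ^ k' * (z⁻¹) ^ r' * (c1 * z ^ k' * x ^ r') := by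
        conv_lhs => rw [hconj]
        have q1 : Commute (w'' ^ k') c1 := ((hCS c1 hc1).2 _ (S.pow_mem (hCle hw''C) k')).symm
        have q2 : Commute (z⁻¹ ^ r') (c1 * z ^ k') :=
          ((((show Commute c1 z from (hCS c1 hc1).2 z (h1S (vOf_le hzV))).inv_right).pow_right r').symm).mul_right
            (((Commute.refl z).inv_left.pow_left r').pow_right k')
        calc c1 * (w'' ^ k' * z ^ k') * (z⁻¹ ^ r' * x ^ r')
            = (c1 * w'' ^ k') * (z ^ k' * z⁻¹ ^ r') * x ^ r' := by group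
          _ = w'' ^ k' * (c1 * z ^ k' * z⁻¹ ^ r') * x ^ r' := by rw [← q1.eq]; group
          _ = w'' ^ k' * (z⁻¹ ^ r' * (c1 * z ^ k')) * x ^ r' := by rw [q2.eq]
          _ = _ := by group
      rw [eq_comm, mul_eq_right] at hwc
      have hzr : z ^ r' ∈ C := by
        have h0 : (z⁻¹) ^ r' = (w'' ^ k')⁻¹ := eq_inv_of_mul_eq_one_right hwc
        rw [inv_pow, inv_inj] at h0
        rw [h0]; exact C.pow_mem hw''C k'
      have hzr1 := pow_eq_one_of_mem hzp hzC hzr
      rw [inv_pow, hzr1, inv_one, mul_one] at hwc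
      obtain ⟨j, hj, hne⟩ := hw''p
      have hkdvd : p ∣ k' := by
        have hwp : w'' ^ p = 1 := by rw [← hj, ← pow_mul, mul_comm, pow_mul, hz'p, one_pow]
        have h5 := orderOf_dvd_of_pow_eq_one hwc
        rwa [orderOf_eq_prime hwp (hne hz0)] at h5
      have hrdvd : p ∣ r' :=
        (orderOf_eq_prime hzp (fun e1 => hzC (e1 ▸ one_mem _))) ▸ orderOf_dvd_of_pow_eq_one hzr1
      obtain ⟨k2, rfl⟩ := hkdvd
      obtain ⟨r2, rfl⟩ := hrdvd
      rw [pow_mul, hzp, pow_mul, hxp, one_pow, one_pow, mul_one, mul_one]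
      exact hc1
  · -- exponent at least `p²`
    exfalso
    set R := zpowers (c ^ p ^ (m0 - 1)) with hR
    have hzR : z'' ∈ R := mem_bottom hm (hcgen ▸ hz''C) hz'p
    have hpowS : ∀ s ∈ S, s ^ p ^ (m0 - 1) ∈ R := by
      intro s hs
      obtain ⟨l, i, k, r, rfl⟩ := hSdec s hs
      rw [(show Commute (c ^ l) _ from (hCS _ (C.pow_mem hcC l)).2 _
        (S.mul_mem (S.mul_mem (S.pow_mem heS i) (S.pow_mem (h1S (vOf_le hzV)) k))
          (S.pow_mem hxS r))).mul_pow]
      refine R.mul_mem ?_ ?_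
      · rw [← pow_mul, mul_comm, pow_mul]; exact pow_mem (mem_zpowers _) l
      · rw [show m0 - 1 = (m0 - 2) + 1 by omega, pow_succ', pow_mul]
        exact R.pow_mem ((zpowers_le.2 hzR) (hpowmod i k r)) _
    have hinv : ∀ B : Subgroup Ω, B ≤ S → c ∈ B → Inv F B R := by
      intro B hBS hcB α hα y _ hyR
      obtain ⟨i, rfl⟩ := hyR
      have hfin : IsOfFinOrder (c ^ p ^ (m0 - 1)) :=
        (isOfFinOrder_iff_pow_eq_one.2 ⟨p ^ m0, pow_pos hp.out.pos _, hm ▸ pow_orderOf_eq_one c⟩).pow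
      obtain ⟨i', hi'⟩ := hfin.mem_powers_iff_mem_zpowers.2 (zpow_mem (mem_zpowers _) i)
      change (c ^ p ^ (m0 - 1)) ^ i' = (c ^ p ^ (m0 - 1)) ^ i at hi'
      show apl α ((c ^ p ^ (m0 - 1)) ^ i) ∈ R
      rw [← hi', ← pow_mul, mul_comm, pow_mul, apl_map_pow α (B.pow_mem hcB i')]
      exact hpowS _ (hBS (apl_mem α (B.pow_mem hcB i')))
    have hcS := (hCS c hcC).1
    have hbot := h.eq_bot_of_inv (Q := R) (zpowers_le.2 (S.pow_mem hcS _)) (hinv S le_rfl hcS)
      fun B hB => by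
        have hcB := h.cen_le_ess hB hcS (hCS c hcC).2
        exact ⟨zpowers_le.2 (B.pow_mem hcB _), hinv B hB.1.1 hcB⟩
    rw [hR, zpowers_eq_bot] at hbot
    have := orderOf_dvd_of_pow_eq_one hbot
    rw [hm, Nat.pow_dvd_pow_iff_le_right hp.out.one_lt] at this
    omega

end Cfsg.Agent.FusRankThreeNormal
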