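import Cfsg.Agent.FusRankThreeNormal.Group
import Cfsg.Agent.Classical.SympGroup
import Cfsg.Agent.Core.Solvable
import Mathlib.Tactic.LinearCombination

/-!
A `p`-group of order `p⁴` with an elementary abelian maximal subgroup on which a complement of order
`p` acts regularly is a Sylow subgroup of `Sp₄(p)`.
-/

set_option autoImplicit false
set_option linter.style.haveILetI false
set_option linter.unusedSectionVars false

namespace Cfsg.Agent.FusRankThreeNormal

open Subgroup Matrix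
open Cfsg.Agent.RankThreeEss (Elem pow_eq_pow_of_cast)
open scoped commutatorElement

variable {p : ℕ} [hp : Fact p.Prime]

set_option quotPrecheck false
local notation "Sp4" => ↥(Matrix.symplecticGroup (Fin 2) (ZMod p))

/-- The quadratic coefficient. -/
def cc (l : ZMod p) : ZMod p := l * (l - 1) * 2⁻¹

/-- The matrices of the Sylow subgroup. -/
def mat (q : ZMod p × ZMod p × ZMod p × ZMod p) :
    Matrix (Fin 2 ⊕ Fin 2) (Fin 2 ⊕ Fin 2) (ZMod p) :=
  Matrix.fromBlocks !![1, q.2.2.2; 0, 1]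
    !![q.2.1 + 2 * q.2.2.1 - q.2.2.2 * q.2.1, q.2.1; q.2.1 - q.2.2.2 * q.1, q.1]
    0 !![1, 0; -q.2.2.2, 1]

/-- The multiplication. -/
def qmul (q r : ZMod p × ZMod p × ZMod p × ZMod p) : ZMod p × ZMod p × ZMod p × ZMod p :=
  (q.1 + r.1, q.2.1 + r.2.1 + q.2.2.2 * r.1,
    q.2.2.1 + r.2.2.1 + q.2.2.2 * r.2.1 + cc q.2.2.2 * r.1, q.2.2.2 + r.2.2.2)

theorem two_ne (hodd : Odd p) : (2 : ZMod p) ≠ 0 := by
  intro e
  rw [show (2 : ZMod p) = ((2 : ℕ) : ZMod p) by norm_num, ZMod.natCast_eq_zero_iff] at e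
  rcases hodd with ⟨k, hk⟩
  have := Nat.le_of_dvd (by norm_num) e
  have := hp.out.two_le
  omega

theorem two_mul_cc (hodd : Odd p) (l : ZMod p) : 2 * cc l = l * (l - 1) := by
  rw [cc]
  field_simp [two_ne hodd]

theorem mat_mul (hodd : Odd p) (q r : ZMod p × ZMod p × ZMod p × ZMod p) :
    mat (qmul q r) = mat q * mat r := by
  obtain ⟨i, j, k, l⟩ := q
  obtain ⟨i', j', k', l'⟩ := r
  ext a b
  rcases a with a | a <;> rcases b with b | b <;> fin_cases a <;> fin_cases b <;>
    simp [mat, qmul, Matrix.mul_apply, Fintype.sum_sum_type, Fin.sum_univ_two] <;>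
    first
      | ring1
      | linear_combination i' * two_mul_cc hodd l

theorem mat_mem (q : ZMod p × ZMod p × ZMod p × ZMod p) :
    mat q ∈ Matrix.symplecticGroup (Fin 2) (ZMod p) := by
  obtain ⟨i, j, k, l⟩ := q
  rw [SymplecticGroup.mem_iff]
  ext a b
  rcases a with a | a <;> rcases b with b | b <;> fin_cases a <;> fin_cases b <;>
    simp [mat, Matrix.J, Matrix.mul_apply, Fintype.sum_sum_type, Fin.sum_univ_two] <;> ring1

theorem mat_inj (hodd : Odd p) {q r : ZMod p × ZMod p × ZMod p × ZMod p} (h : mat q = mat r) :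
    q = r := by
  obtain ⟨i, j, k, l⟩ := q
  obtain ⟨i', j', k', l'⟩ := r
  have e := fun a b => congrFun (congrFun h a) b
  have h1 := e (.inl 0) (.inl 1)
  have h2 := e (.inl 1) (.inr 1)
  have h3 := e (.inl 0) (.inr 1)
  have h4 := e (.inl 0) (.inr 0)
  simp [mat] at h1 h2 h3 h4
  subst h1 h2 h3
  have h5 : k = k' := mul_left_cancel₀ (two_ne hodd) (by linear_combination h4)
  rw [h5]

/-- The order of `Sp₄(p)`. -/
theorem factorization_sp4 : (Nat.card Sp4).factorization p = 4 := by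
  have hc := Cfsg.Agent.Classical.card_symplecticGroup (F := ZMod p) (q := p) (ZMod.card p) 2
  rw [hc, Finset.prod_range_succ, Finset.prod_range_one]
  have hndvd : ∀ n : ℕ, 1 ≤ n → ¬ p ∣ p ^ n - 1 := by
    intro n hn hd
    have h1 : p ∣ p ^ n := dvd_pow_self p (by omega)
    have h2 : 1 ≤ p ^ n := Nat.one_le_pow _ _ hp.out.pos
    have h3 := (Nat.dvd_sub h1 hd)
    rw [Nat.sub_sub_self h2, Nat.dvd_one] at h3
    exact hp.out.one_lt.ne' h3
  have hne : ∀ n : ℕ, 1 ≤ n → p ^ n - 1 ≠ 0 := fun n hn e =>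
    hndvd n hn (e ▸ dvd_zero p)
  have h2 := hne (2 * (0 + 1)) (by norm_num)
  have h4 := hne (2 * (1 + 1)) (by norm_num)
  rw [Nat.factorization_mul (pow_ne_zero _ hp.out.ne_zero) (mul_ne_zero h2 h4),
    Nat.factorization_mul h2 h4, Finsupp.add_apply, Finsupp.add_apply,
    Nat.factorization_eq_zero_of_not_dvd (hndvd _ (by norm_num)),
    Nat.factorization_eq_zero_of_not_dvd (hndvd _ (by norm_num)),
    hp.out.factorization_pow, Finsupp.single_eq_same]
  norm_num

variable {G : Type*} [Group G] [Finite G]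

/-- The recognition. -/
theorem iso_sylow (hG : IsPGroup p G) (hodd : Odd p) {A : Subgroup G} [A.Normal] (hA : Elem p A)
    (hAc : Nat.card A = p ^ 3) {a : G} (ha : a ∉ A) (hap : a ^ p = 1) (hGc : Nat.card G = p ^ 4)
    (hfix : ∀ U : Subgroup G, U ≤ A → (∀ x ∈ U, a * x = x * a) → Nat.card U ≤ p) :
    ∃ P : Sylow p Sp4, Nonempty (G ≃* ↥(P : Subgroup Sp4)) := by
  haveI : NeZero p := ⟨hp.out.ne_zero⟩
  haveI := hG.isNilpotent
  haveI : IsMulCommutative A := ⟨⟨fun x y => Subtype.ext (hA.1 x x.2 y y.2)⟩⟩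
  have conjA : ∀ g : G, ∀ x ∈ A, g * x * g⁻¹ ∈ A := fun g x hx => ‹A.Normal›.conj_mem x hx g
  -- the endomorphism `δ`
  have hδmem : ∀ x ∈ A, ⁅a, x⁆ ∈ A := fun x hx => by
    rw [commutatorElement_def]; exact A.mul_mem (conjA a x hx) (A.inv_mem hx)
  let δ : A →* A := MonoidHom.mk' (fun x => ⟨⁅a, (x : G)⁆, hδmem x x.2⟩) fun x y => Subtype.ext (by
    show ⁅a, (x : G) * y⁆ = ⁅a, (x : G)⁆ * ⁅a, (y : G)⁆
    have e : ⁅a, (x : G) * y⁆ = ⁅a, (x : G)⁆ * ((x : G) * ⁅a, (y : G)⁆ * (x : G)⁻¹) := by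
      simp only [commutatorElement_def]; group
    rw [e, hA.1 x x.2 _ (hδmem y y.2), mul_inv_cancel_right])
  have hδ : ∀ x : A, ((δ x : A) : G) = ⁅a, (x : G)⁆ := fun _ => rfl
  have hconj : ∀ x : A, a * (x : G) * a⁻¹ = ((δ x : A) : G) * x := fun x => by
    rw [hδ, commutatorElement_def, inv_mul_cancel_right]
  set C : Subgroup G := δ.ker.map A.subtype with hC
  have hCmem : ∀ x ∈ C, a * x = x * a := by
    rintro _ ⟨x, hx, rfl⟩
    have := congrArg Subtype.val (show δ x = 1 from hx)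
    exact commutatorElement_eq_one_iff_mul_comm.1 this
  have hCle : C ≤ A := map_subtype_le _
  have hkerC : Nat.card δ.ker ≤ p := by
    rw [← card_map_of_injective A.subtype_injective]; exact hfix C hCle hCmem
  have hAtop : A ⊔ zpowers a = ⊤ := by
    refine eq_top_of_le_card _ ?_
    obtain ⟨-, h2⟩ := (⟨hA.1, hA.2⟩ : Elem p A)
    have hlt : Nat.card A < Nat.card (A ⊔ zpowers a : Subgroup G) := by
      refine lt_of_le_of_ne (card_le_of_le le_sup_left) fun e => ha ?_
      exact (eq_of_le_of_card_ge le_sup_left e.ge).symm ▸ mem_sup_right (mem_zpowers a)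
    obtain ⟨m, hm⟩ := IsPGroup.iff_card.1 (hG.to_subgroup (A ⊔ zpowers a))
    rw [hm, hAc] at hlt
    have := (Nat.pow_lt_pow_iff_right hp.out.one_lt).1 hlt
    rw [hm, hGc]
    exact Nat.pow_le_pow_right hp.out.pos (by omega)
  -- invariant nontrivial subgroups of `A` contain the kernel
  have hker_le : ∀ H : Subgroup A, H ≠ ⊥ → (∀ x ∈ H, δ x ∈ H) →
      δ.ker ≤ H ∧ Nat.card δ.ker = p := by
    intro H hH hHi
    set H' := H.map A.subtype
    have hn : ∀ g ∈ A ⊔ zpowers a, g ∈ normalizer (H' : Set G) := by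
      intro g hg
      refine (sup_le (fun b hb => ?_) (zpowers_le.2 ?_) : A ⊔ zpowers a ≤ _) hg
      · refine mem_normalizer_fintype ?_
        rintro _ ⟨x, hx, rfl⟩
        exact ⟨x, hx, by rw [coe_subtype, hA.1 b hb x x.2, mul_inv_cancel_right]⟩
      · refine mem_normalizer_fintype ?_
        rintro _ ⟨x, hx, rfl⟩
        exact ⟨δ x * x, H.mul_mem (hHi x hx) hx, (hconj x).symm⟩
    haveI : H'.Normal := normalizer_eq_top_iff.1 (eq_top_iff.2 fun g _ => hn g (hAtop.symm ▸ mem_top g))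
    have h1 := Core.inf_center_ne_bot (G := G) (N := H')
      (fun e => hH ((map_eq_bot_iff_of_injective _ A.subtype_injective).1 e))
    obtain ⟨z, ⟨hzH, hzc⟩, hz1⟩ := (bot_or_exists_ne_one _).resolve_left h1
    obtain ⟨x, hx, rfl⟩ := hzH
    have hxk : x ∈ δ.ker := Subtype.ext (by
      rw [hδ]
      exact commutatorElement_eq_one_iff_mul_comm.2 (mem_center_iff.1 hzc a))
    have hdvd : Nat.card δ.ker ∣ p ^ 3 := hAc ▸ card_subgroup_dvd_card _
    obtain ⟨m, -, hm⟩ := (Nat.dvd_prime_pow hp.out).1 hdvd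
    have hm1 : m = 1 := by
      have h0 : m ≠ 0 := fun h0 => hz1 (by
        rw [h0, pow_zero] at hm
        have := (card_eq_one.1 hm).le hxk
        rw [mem_bot] at this
        rw [this]; rfl)
      have := (Nat.pow_le_pow_iff_right hp.out.one_lt).1 (hm ▸ hkerC.trans (pow_one p).ge)
      omega
    rw [hm1, pow_one] at hm
    refine ⟨?_, hm⟩
    have hlex : zpowers x ≤ δ.ker := zpowers_le.2 hxk
    have hx1 : zpowers x ≠ ⊥ := by
      rw [Ne, zpowers_eq_bot]; exact fun e => hz1 (by rw [e]; rfl)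
    rcases (Nat.dvd_prime hp.out).1 (hm ▸ card_dvd_of_le hlex) with h2 | h2
    · exact absurd (card_eq_one.1 h2) hx1
    · exact (eq_of_le_of_card_ge hlex (hm.trans h2.symm).le).ge.trans (zpowers_le.2 hx)
  have hAne : (⊤ : Subgroup A) ≠ ⊥ := fun e => by
    have := congrArg (fun H : Subgroup A => Nat.card H) e
    simp only [card_top, card_bot, hAc] at this
    exact (one_lt_pow₀ hp.out.one_lt (by norm_num : 3 ≠ 0)).ne' this
  have hk := (hker_le ⊤ hAne fun _ _ => mem_top _).2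
  set R := δ.range with hR
  have hRc : Nat.card R = p ^ 2 := by
    have := δ.ker.card_mul_index
    rw [index_ker, hk, hAc, show p ^ 3 = p * p ^ 2 by ring] at this
    exact Nat.eq_of_mul_eq_mul_left hp.out.pos this
  have hRne : R ≠ ⊥ := fun e => by
    rw [e, card_bot] at hRc
    exact (one_lt_pow₀ hp.out.one_lt two_ne_zero).ne hRc
  have hkR := (hker_le R hRne fun x _ => ⟨x, rfl⟩).1
  -- `δ` maps the range onto the kernel
  have hd3 : ∀ x, δ (δ (δ x)) = 1 := by
    intro x
    set R2 := R.map δ with hR2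
    have hR2c : Nat.card R2 = p := by
      have e := (δ.comp R.subtype).ker.card_mul_index
      rw [index_ker, MonoidHom.range_comp, range_subtype, hRc] at e
      have hkk : Nat.card (δ.comp R.subtype).ker = p := by
        rw [← MonoidHom.comap_ker,
          ← Nat.card_congr (subgroupOfEquivOfLe hkR).toEquiv] at *
        exact hk
      rw [hkk, pow_two] at e
      exact Nat.eq_of_mul_eq_mul_left hp.out.pos e
    have hR2ne : R2 ≠ ⊥ := fun e => by rw [e, card_bot] at hR2c; exact hp.out.one_lt.ne hR2c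
    have h1 := (hker_le R2 hR2ne (by
      rintro _ ⟨y, hy, rfl⟩
      exact ⟨δ y, ⟨y, rfl⟩, rfl⟩)).1
    have h2 := eq_of_le_of_card_ge h1 (hR2c.trans hk.symm).le
    have h3 : δ (δ x) ∈ δ.ker := h2.symm ▸ ⟨δ x, ⟨x, rfl⟩, rfl⟩
    exact h3
  obtain ⟨v, hv⟩ : ∃ v : A, δ (δ v) ≠ 1 := by
    by_contra! hall
    have : R ≤ δ.ker := by rintro _ ⟨y, rfl⟩; exact hall y
    have := card_le_of_le this
    rw [hRc, hk] at this
    have := (Nat.pow_le_pow_iff_right hp.out.one_lt).1 (this.trans (pow_one p).ge)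
    omega
  set v1 := δ v with hv1
  set v0 := δ v1 with hv0
  have hvp : ∀ x : A, x ^ p = 1 := fun x => Subtype.ext (hA.2 x x.2)
  have hδ0 : δ v0 = 1 := hd3 v
  let P : ZMod p → ZMod p → ZMod p → A := fun i j k => v ^ i.val * v1 ^ j.val * v0 ^ k.val
  have hP : ∀ i j k, P i j k = v ^ i.val * v1 ^ j.val * v0 ^ k.val := fun _ _ _ => rfl
  have padd : ∀ (x : A) (s t : ZMod p), x ^ (s + t).val = x ^ s.val * x ^ t.val := fun x s t => by
    rw [← pow_add]
    exact pow_eq_pow_of_cast (hvp x) (by simp [ZMod.natCast_zmod_val])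
  have hPadd : ∀ i j k i' j' k', P i j k * P i' j' k' = P (i + i') (j + j') (k + k') := by
    intros
    have mmc : ∀ x y z w : A, x * y * (z * w) = x * z * (y * w) := fun x y z w => by
      rw [mul_assoc, ← mul_assoc y, show y * z = z * y from Subtype.ext (hA.1 y y.2 z z.2), mul_assoc z,
        ← mul_assoc]
    rw [hP, hP, hP, padd, padd, padd, mmc, mmc (v ^ _)]
  have hPδ : ∀ i j k, δ (P i j k) = P 0 i j := by
    intro i j k
    rw [hP, hP, map_mul, map_mul, map_pow, map_pow, map_pow, ← hv1, ← hv0, hδ0, one_pow, mul_one,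
      ZMod.val_zero, pow_zero, one_mul]
  have hpow0 : ∀ (x : A), x ≠ 1 → ∀ s : ZMod p, x ^ s.val = 1 → s = 0 := by
    intro x hx s hs
    by_contra hs0
    refine hx (RankThreeEss.eq_one_of_pow_eq (hvp x) (a := s.val) (b := 0) (by rw [hs, pow_zero]) ?_)
    rw [ZMod.natCast_zmod_val, Nat.cast_zero]; exact hs0
  have hv01 : v0 ≠ 1 := hv
  have hPinj : ∀ i j k i' j' k', P i j k = P i' j' k' → i = i' ∧ j = j' ∧ k = k' := by
    have key : ∀ i j k, P i j k = 1 → i = 0 ∧ j = 0 ∧ k = 0 := by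
      intro i j k h
      have h1 : δ (δ (P i j k)) = 1 := by rw [h, map_one, map_one]
      rw [hPδ, hPδ, hP, ZMod.val_zero, pow_zero, one_mul, pow_zero, one_mul] at h1
      obtain rfl := hpow0 v0 hv01 i h1
      have h2 : δ (P 0 j k) = 1 := by rw [h, map_one]
      rw [hPδ, hP, ZMod.val_zero, pow_zero, one_mul, pow_zero, one_mul] at h2
      obtain rfl := hpow0 v0 hv01 j h2
      rw [hP, ZMod.val_zero, pow_zero, one_mul, pow_zero, one_mul] at h
      exact ⟨rfl, rfl, hpow0 v0 hv01 k h⟩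
    intro i j k i' j' k' h
    have h1 := hPadd i j k (-i') (-j') (-k')
    rw [h, hPadd, add_neg_cancel, add_neg_cancel, add_neg_cancel, hP, ZMod.val_zero, pow_zero,
      one_mul, pow_zero, one_mul, pow_zero] at h1
    obtain ⟨e1, e2, e3⟩ := key _ _ _ h1.symm
    exact ⟨add_neg_eq_zero.1 e1, add_neg_eq_zero.1 e2, add_neg_eq_zero.1 e3⟩
  -- conjugation by powers of `a`
  have hcc : ∀ n : ℕ, cc (((n + 1 : ℕ) : ZMod p)) = cc (n : ZMod p) + n := fun n => by
    refine mul_left_cancel₀ (two_ne hodd) ?_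
    rw [mul_add, two_mul_cc hodd, two_mul_cc hodd]
    push_cast
    ring
  have hconjn : ∀ (n : ℕ) i j k, a ^ n * (P i j k : G) * (a ^ n)⁻¹ =
      (P i (j + n * i) (k + n * j + cc (n : ZMod p) * i) : A) := by
    intro n
    induction n with
    | zero => intro i j k; simp [cc]
    | succ n ih =>
      intro i j k
      have e : a ^ (n + 1) * (P i j k : G) * (a ^ (n + 1))⁻¹ =
          a * (a ^ n * (P i j k : G) * (a ^ n)⁻¹) * a⁻¹ := by rw [pow_succ']; group
      rw [e, ih, hconj, ← Subgroup.coe_mul, hPδ, hPadd, hcc]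
      congr 2
      · ring
      · push_cast; ring
      · push_cast; ring
  let Φ : ZMod p × ZMod p × ZMod p × ZMod p → G :=
    fun q => (P q.1 q.2.1 q.2.2.1 : G) * a ^ q.2.2.2.val
  have hΦ : ∀ q, Φ q = (P q.1 q.2.1 q.2.2.1 : G) * a ^ q.2.2.2.val := fun _ => rfl
  have hΦmul : ∀ q r, Φ (qmul q r) = Φ q * Φ r := by
    rintro ⟨i, j, k, l⟩ ⟨i', j', k', l'⟩
    have e : (P i j k : G) * a ^ l.val * ((P i' j' k' : G) * a ^ l'.val) =
        (P i j k : G) * (a ^ l.val * (P i' j' k' : G) * (a ^ l.val)⁻¹) * (a ^ l.val * a ^ l'.val) := by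
      group
    rw [hΦ, hΦ, hΦ, e, hconjn, ← Subgroup.coe_mul, hPadd, ← pow_add,
      pow_eq_pow_of_cast hap (a := l.val + l'.val) (b := (l + l').val)
        (by simp [ZMod.natCast_zmod_val]), ZMod.natCast_zmod_val]
    simp only [qmul, add_assoc]
  have hΦinj : Function.Injective Φ := by
    rintro ⟨i, j, k, l⟩ ⟨i', j', k', l'⟩ h
    rw [hΦ, hΦ] at h
    simp only at h
    have hl : l = l' := by
      by_contra hne
      refine ha ?_
      have hmem : ((P i' j' k' : A) : G)⁻¹ * (P i j k : A) = a ^ l'.val * (a ^ l.val)⁻¹ := by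
        rw [inv_mul_eq_iff_eq_mul, ← mul_assoc, ← h, mul_inv_cancel_right]
      have h2 : a ^ ((l' - l).val) ∈ A := by
        have : a ^ ((l' - l).val) = a ^ l'.val * (a ^ l.val)⁻¹ := by
          rw [eq_mul_inv_iff_mul_eq, ← pow_add]
          exact pow_eq_pow_of_cast hap (by simp [ZMod.natCast_zmod_val])
        rw [this, ← hmem]
        exact A.mul_mem (A.inv_mem (SetLike.coe_mem _)) (SetLike.coe_mem _)
      set s := (l' - l) with hs
      have hs0 : s ≠ 0 := sub_ne_zero.2 (Ne.symm hne)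
      have : a = (a ^ s.val) ^ (s⁻¹).val := by
        rw [← pow_mul]
        conv_lhs => rw [← pow_one a]
        exact pow_eq_pow_of_cast hap (by simp [ZMod.natCast_zmod_val, hs0])
      rw [this]; exact A.pow_mem h2 _
    subst hl
    obtain ⟨rfl, rfl, rfl⟩ := hPinj _ _ _ _ _ _ (Subtype.ext (mul_right_cancel h))
    rfl
  have hΦbij : Function.Bijective Φ := by
    rw [Nat.bijective_iff_injective_and_card]
    refine ⟨hΦinj, ?_⟩
    rw [Nat.card_prod, Nat.card_prod, Nat.card_prod, Nat.card_zmod, hGc]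
    ring
  let e := (Equiv.ofBijective Φ hΦbij).symm
  have he : ∀ g, Φ (e g) = g := fun g => (Equiv.ofBijective Φ hΦbij).apply_symm_apply g
  let ψ : G →* Sp4 := MonoidHom.mk' (fun g => ⟨mat (e g), mat_mem _⟩) fun g g' => Subtype.ext (by
    show mat (e (g * g')) = mat (e g) * mat (e g')
    rw [← mat_mul hodd]
    congr 1
    exact hΦinj (by rw [hΦmul, he, he, he]))
  have hψ : Function.Injective ψ := fun g g' h => by
    rw [← he g, ← he g', mat_inj hodd (congrArg Subtype.val h)]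
  have hcard : Nat.card ψ.range = p ^ (Nat.card Sp4).factorization p := by
    rw [factorization_sp4, ← hGc, Nat.card_congr (MonoidHom.ofInjective hψ).toEquiv]
  exact ⟨Sylow.ofCard ψ.range hcard, ⟨MonoidHom.ofInjective hψ⟩⟩

end Cfsg.Agent.FusRankThreeNormal
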