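import Cfsg.Agent.FusRankThreeNormal.Ess
import Cfsg.Agent.FusRankThreeNormal.Model

/-!
Shared steps of the case analysis.
-/

set_option autoImplicit false
set_option linter.style.haveILetI false
set_option linter.unusedSectionVars false

namespace Cfsg.Agent.FusRankThreeNormal

open Cfsg Cfsg.FusionSystem Cfsg.Agent.FusSys Subgroup
open Cfsg.Agent.RankThreeEss (Elem)
open scoped commutatorElement

universe u

variable {Ω : Type u} [Group Ω] {S : Subgroup Ω} {F : FusionSystem S} {p : ℕ}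

/-- `S` is a Sylow subgroup of `Sp₄(p)`. -/
def IsSp4Sylow (p : ℕ) [Fact p.Prime] (S : Subgroup Ω) : Prop :=
  ∃ P : Sylow p ↥(Matrix.symplecticGroup (Fin 2) (ZMod p)),
    Nonempty (↥S ≃* ↥(P : Subgroup ↥(Matrix.symplecticGroup (Fin 2) (ZMod p))))

variable [Finite S] [hp : Fact p.Prime]

/-- An element of order dividing `p` in a cyclic group of order `p ^ m` is a power of the bottom. -/
theorem mem_bottom {G : Type*} [Group G] {c y : G} {m : ℕ} (hc : orderOf c = p ^ m)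
    (hy : y ∈ zpowers c) (hyp : y ^ p = 1) : y ∈ zpowers (c ^ p ^ (m - 1)) := by
  rcases Nat.eq_zero_or_pos m with rfl | hm
  · simpa using hy
  obtain ⟨i, rfl⟩ := hy
  change c ^ i ∈ _
  change (c ^ i) ^ p = 1 at hyp
  rw [← zpow_natCast, ← zpow_mul, ← orderOf_dvd_iff_zpow_eq_one, hc,
    show (((p ^ m : ℕ)) : ℤ) = ((p ^ (m - 1) : ℕ) : ℤ) * (p : ℤ) by
      rw [← Nat.cast_mul, ← pow_succ, show m - 1 + 1 = m by omega]] at hyp
  obtain ⟨j, hj⟩ := (mul_dvd_mul_iff_right (Int.natCast_ne_zero.2 hp.out.ne_zero)).1 hyp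
  refine ⟨j, ?_⟩
  show (c ^ p ^ (m - 1)) ^ j = c ^ i
  rw [hj, zpow_mul, zpow_natCast]

/-- A power of an element outside a subgroup, inside it, is trivial. -/
theorem pow_eq_one_of_mem {G : Type*} [Group G] {H : Subgroup G} {z : G} (hz : z ^ p = 1)
    (hzH : z ∉ H) {k : ℕ} (h : z ^ k ∈ H) : z ^ k = 1 := by
  by_cases hd : p ∣ k
  · obtain ⟨j, rfl⟩ := hd
    rw [pow_mul, hz, one_pow]
  · exfalso
    obtain ⟨a, b, hab⟩ : IsCoprime (k : ℤ) (p : ℤ) := Int.isCoprime_iff_nat_coprime.2 (by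
      simpa using ((Nat.Prime.coprime_iff_not_dvd hp.out).2 hd).symm)
    refine hzH ?_
    have : z ^ (a * k + b * p : ℤ) ∈ H := by
      rw [zpow_add, mul_comm a, mul_comm b, zpow_mul, zpow_natCast, zpow_mul, zpow_natCast, hz,
        one_zpow, mul_one]
      exact H.zpow_mem h a
    rwa [hab, zpow_one] at this

namespace Hyp

variable (h : Hyp p F)
include h

/-- Two essential subgroups meet in index `p`. -/
theorem inter_index {E₁ E₂ : Subgroup Ω} (h1 : F.IsEssential p E₁) (h2 : F.IsEssential p E₂)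
    (hne : ¬ E₂ ≤ E₁) : (E₁.subgroupOf E₂).index = p := by
  haveI := finite_of_le h1.1.1
  haveI := finite_of_le h2.1.1
  haveI := (h.nor_ess h1).subgroupOf (le_refl S)
  have hi : (E₁.subgroupOf S).index = p := by
    have e := (E₁.subgroupOf S).card_mul_index
    rw [h.card_eq h1, Nat.card_congr (subgroupOfEquivOfLe h1.1.1).toEquiv, mul_comm p] at e
    exact Nat.eq_of_mul_eq_mul_left Nat.card_pos e
  have hd : (E₁.subgroupOf S).relIndex (E₂.subgroupOf S) ∣ p := hi ▸ relIndex_dvd_index_of_normal _ _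
  rw [relIndex_subgroupOf h2.1.1] at hd
  rcases (Nat.dvd_prime hp.out).1 hd with e | e
  · exact absurd (relIndex_eq_one.1 e) hne
  · exact e

/-- The model step. -/
theorem model {A W : Subgroup Ω} (hAS : A ≤ S) (hA : Nor S A) (hel : Elem p A)
    (hAc : Nat.card A = p ^ 3) {a : Ω} (haS : a ∈ S) (ha : a ∉ A) (hap : a ^ p = 1)
    (hSc : Nat.card S = p ^ 4) (hWS : W ≤ S) (hW : Nat.card W = p)
    (hfix : ∀ y ∈ A, a * y = y * a → y ∈ W) : IsSp4Sylow p S := by
  haveI := hA.subgroupOf (le_refl S)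
  haveI := finite_of_le hWS
  refine iso_sylow h.pS h.odd (A := A.subgroupOf S)
    ⟨fun x hx y hy => Subtype.ext (hel.1 x hx y hy), fun x hx => Subtype.ext (hel.2 x hx)⟩
    ((Nat.card_congr (subgroupOfEquivOfLe hAS).toEquiv).trans hAc) (a := ⟨a, haS⟩) ha
    (Subtype.ext hap) hSc fun U hU hcomm => ?_
  rw [← hW, ← Nat.card_congr (U.equivMapOfInjective S.subtype S.subtype_injective).symm.toEquiv]
  refine card_le_of_le ?_
  rintro _ ⟨x, hx, rfl⟩
  exact hfix x (hU hx) (congrArg Subtype.val (hcomm x hx))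

/-- A group of order `p ^ 3` of sectional rank three is abelian. -/
theorem comm_of_card_cube (hc : Nat.card S = p ^ 3) : ∀ a ∈ S, ∀ b ∈ S, a * b = b * a := by
  by_contra hno
  push Not at hno
  obtain ⟨a, ha, b, hb, hab⟩ := hno
  refine h.notTwo fun H N _ A hA hexp => ?_
  obtain ⟨n, hn⟩ := IsPGroup.iff_card.1 (((h.pS.to_subgroup H).to_quotient N).to_subgroup A)
  rw [hn]
  refine Nat.pow_le_pow_right hp.out.pos (le_of_not_gt fun h2 => hab ?_)
  have h1 : Nat.card (H ⧸ N) * Nat.card N = Nat.card H := (card_eq_card_quotient_mul_card_subgroup N).symm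
  have h3 : Nat.card H ≤ p ^ 3 := hc ▸ card_le_card_group H
  have h4 : p ^ 3 ≤ Nat.card A := hn ▸ Nat.pow_le_pow_right hp.out.pos h2
  have h5 := card_le_card_group A
  have hN : Nat.card N = 1 := by
    have h6 : p ^ 3 * Nat.card N ≤ p ^ 3 * 1 := by
      rw [mul_one]
      calc p ^ 3 * Nat.card N ≤ Nat.card (H ⧸ N) * Nat.card N :=
            Nat.mul_le_mul_right _ (h4.trans h5)
        _ ≤ p ^ 3 := h1.le.trans h3
    exact le_antisymm (Nat.le_of_mul_le_mul_left h6 (pow_pos hp.out.pos 3)) Nat.card_pos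
  rw [hN, mul_one] at h1
  have hA' : A = ⊤ := eq_top_of_le_card _ (by omega)
  have hH : H = ⊤ := eq_top_of_le_card _ (by omega)
  subst hH
  have hNb : N = ⊥ := card_eq_one.1 hN
  have e : QuotientGroup.mk' N ⟨⟨a, ha⟩, mem_top _⟩ * QuotientGroup.mk' N ⟨⟨b, hb⟩, mem_top _⟩ =
      QuotientGroup.mk' N ⟨⟨b, hb⟩, mem_top _⟩ * QuotientGroup.mk' N ⟨⟨a, ha⟩, mem_top _⟩ :=
    congrArg Subtype.val (hA.is_comm.comm ⟨_, hA' ▸ mem_top _⟩ ⟨_, hA' ▸ mem_top _⟩)
  rw [← map_mul, ← map_mul, QuotientGroup.mk'_apply, QuotientGroup.mk'_apply, QuotientGroup.eq,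
    hNb, mem_bot, inv_mul_eq_one] at e
  exact congrArg (fun w : (⊤ : Subgroup S) => ((w : S) : Ω)) e

end Hyp

end Cfsg.Agent.FusRankThreeNormal
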