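import Cfsg.Agent.FusRankThreeNormal.Index
import Cfsg.Agent.FusSys.Centric

/-!
Facts about essential subgroups of index `p`, the subgroup generated by the images of the socle of
the centre, and the images of essential subgroups under automorphisms of `S`.
-/

set_option autoImplicit false
set_option linter.style.haveILetI false
set_option linter.unusedSectionVars false

namespace Cfsg.Agent.FusRankThreeNormal

open Cfsg Cfsg.FusionSystem Cfsg.Agent.FusSys Subgroup
open Cfsg.Agent.RankThreeEss (Elem)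
open scoped commutatorElement

universe u

variable {Ω : Type u} [Group Ω] {S : Subgroup Ω} {F : FusionSystem S} {E : Subgroup Ω} {p : ℕ}
variable [Finite S] [hp : Fact p.Prime]

/-- The images of the socle of the centre of `S` in an essential subgroup. -/
noncomputable def vOf (p : ℕ) (F : FusionSystem S) (E : Subgroup Ω) : Subgroup Ω :=
  orb F E (zOne p S)

theorem stronglyPEmbedded_map {X X' : Type*} [Group X] [Group X'] [Finite X] [Finite X']
    (e : X ≃* X') {Y : Subgroup X} (hY : IsStronglyPEmbedded p Y) :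
    ∃ Y' : Subgroup X', IsStronglyPEmbedded p Y' := by
  obtain ⟨T'⟩ : Nonempty (Sylow p X) := inferInstance
  obtain ⟨Y0, hY0, hN⟩ := exists_proper_of_stronglyPEmbedded hY T'
  set T := T'.mapSurjective (f := e.toMonoidHom) e.surjective
  refine ⟨Y0.map e.toMonoidHom, (Nat.card_congr e.toEquiv) ▸ hY.1, fun h => hY0 ?_, T,
    kGen_le T fun Q hQT hQ => ?_⟩
  · exact map_injective (f := e.toMonoidHom) e.injective
      (h.trans (map_top_of_surjective _ e.surjective).symm)
  · intro n hn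
    obtain ⟨m, rfl⟩ := e.surjective n
    refine mem_map_of_mem _ (hN (Q.comap e.toMonoidHom) ?_ ?_ ?_)
    · intro x hx
      obtain ⟨y, hy, hyx⟩ := hQT hx
      exact (e.injective hyx) ▸ hy
    · exact fun h => hQ (by rw [← map_comap_eq_self_of_surjective (f := e.toMonoidHom) e.surjective Q, h,
        Subgroup.map_bot])
    · rw [mem_normalizer_iff] at hn ⊢
      intro x
      rw [mem_comap, mem_comap, map_mul, map_mul, map_inv]
      exact hn _

namespace Hyp

variable (h : Hyp p F)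
include h

theorem exists_mul (hE : F.IsEssential p E) {x : Ω} (hx : x ∈ S) (hxE : x ∉ E) :
    ∀ s ∈ S, ∃ e ∈ E, ∃ n : ℕ, e * x ^ n = s := by
  intro s hs
  haveI := (h.nor_ess hE).subgroupOf (le_refl S)
  have hES := hE.1.1
  set E' := E.subgroupOf S
  haveI := finite_of_le hES
  have hi : E'.index = p := by
    have h1 := E'.card_mul_index
    rw [h.card_eq hE, Nat.card_congr (subgroupOfEquivOfLe hES).toEquiv, mul_comm p] at h1
    exact Nat.eq_of_mul_eq_mul_left Nat.card_pos h1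
  haveI : IsCyclic (S ⧸ E') := isCyclic_of_prime_card (p := p) (by rw [← index_eq_card, hi])
  have hne : ((⟨x, hx⟩ : S) : S ⧸ E') ≠ 1 := fun e =>
    hxE (mem_subgroupOf.1 ((QuotientGroup.eq_one_iff _).1 e))
  have hmem := mem_zpowers_of_prime_card (by rw [← index_eq_card, hi]) hne
    (g' := ((⟨s, hs⟩ : S) : S ⧸ E'))
  obtain ⟨n, hn⟩ := mem_powers_iff_mem_zpowers.2 hmem
  change ((⟨x, hx⟩ : S) : S ⧸ E') ^ n = _ at hn
  rw [← QuotientGroup.mk_pow, QuotientGroup.eq] at hn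
  refine ⟨s * (x ^ n)⁻¹, ?_, n, inv_mul_cancel_right s _⟩
  have h1 := (h.nor_ess hE) _ (S.pow_mem hx n) _ (mem_subgroupOf.1 hn)
  simpa [mul_assoc] using h1

theorem eq_or_eq (hE : F.IsEssential p E) {M : Subgroup Ω} (hEM : E ≤ M) (hMS : M ≤ S) :
    M = E ∨ M = S := by
  by_cases hle : M ≤ E
  · exact Or.inl (le_antisymm hle hEM)
  · obtain ⟨x, hxM, hxE⟩ := SetLike.not_le_iff_exists.1 hle
    refine Or.inr (le_antisymm hMS fun s hs => ?_)
    obtain ⟨e, he, n, rfl⟩ := h.exists_mul hE (hMS hxM) hxE s hs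
    exact M.mul_mem (hEM he) (M.pow_mem hxM n)

theorem comm_mem_ess (hE : F.IsEssential p E) {a b : Ω} (ha : a ∈ S) (hb : b ∈ S) :
    ⁅a, b⁆ ∈ E := by
  by_cases haE : a ∈ E
  · exact ((h.nor_ess hE).comm_mem haE hb).1
  obtain ⟨e, he, n, rfl⟩ := h.exists_mul hE ha haE b hb
  have key : ⁅a, e * a ^ n⁆ = ⁅a, e⁆ := by
    rw [commutatorElement_def, commutatorElement_def]; group
  rw [key]
  exact ((h.nor_ess hE).comm_mem he ha).2

theorem pow_mem_ess (hE : F.IsEssential p E) {a : Ω} (ha : a ∈ S) : a ^ p ∈ E := by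
  haveI := (h.nor_ess hE).subgroupOf (le_refl S)
  haveI := finite_of_le hE.1.1
  have h1 := (E.subgroupOf S).card_mul_index
  rw [h.card_eq hE, Nat.card_congr (subgroupOfEquivOfLe hE.1.1).toEquiv, mul_comm p] at h1
  have hi := Nat.eq_of_mul_eq_mul_left Nat.card_pos h1
  have h2 := pow_index_mem (E.subgroupOf S) (⟨a, ha⟩ : S)
  rw [hi] at h2
  exact mem_subgroupOf.1 h2

theorem nonpgroup (hE : F.IsEssential p E) {x : Ω} (hx : x ∈ S) (hxE : x ∉ E) :
    ∃ a ∈ F.autGroup E, ∃ γ ∈ F.autGroup E, (∀ y ∈ E, apl a y = x * y * x⁻¹) ∧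
      ¬ IsPGroup p (closure ({a, γ * a * γ⁻¹} : Set (MulAut E))) :=
  h.exists_nonpgroup hE (fun hx hxE => h.exists_mul hE hx hxE) hx hxE

theorem cen_le_ess (hE : F.IsEssential p E) {x : Ω} (hx : x ∈ S) (hc : ∀ y ∈ S, x * y = y * x) :
    x ∈ E :=
  centric_self hE.1 ⟨hx, mem_centralizer_iff.2 fun y hy => (hc y (hE.1.1 hy)).symm⟩

/-! ### Ranks -/

theorem card_elem {A : Subgroup Ω} (hAS : A ≤ S) (hA : Elem p A) : Nat.card A ≤ p ^ 3 := by
  haveI := finite_of_le hAS
  have := card_elem_le (sectional_of_le hAS h.rank) (A := (⊤ : Subgroup A))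
    ⟨fun a _ b _ => Subtype.ext (hA.1 a a.2 b b.2), fun a _ => Subtype.ext (hA.2 a a.2)⟩
  rwa [card_top] at this

theorem card_section {N A : Subgroup Ω} (hNA : N ≤ A) (hAS : A ≤ S)
    (hn : ∀ a ∈ A, ∀ x ∈ N, a * x * a⁻¹ ∈ N) (hcomm : ∀ a ∈ A, ∀ b ∈ A, ⁅a, b⁆ ∈ N)
    (hexp : ∀ a ∈ A, a ^ p ∈ N) : Nat.card A ≤ p ^ 3 * Nat.card N := by
  haveI := finite_of_le hAS
  have := card_section_le (sectional_of_le hAS h.rank) (le_top : N.subgroupOf A ≤ ⊤)
    (fun a _ x hx => hn a a.2 x hx) (fun a _ b _ => hcomm a a.2 b b.2) (fun a _ => hexp a a.2)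
  rwa [card_top, Nat.card_congr (subgroupOfEquivOfLe hNA).toEquiv] at this

theorem wide_section {N A M : Subgroup Ω} (hNA : N ≤ A) (hAM : A ≤ M) (hMS : M ≤ S)
    (hn : ∀ m ∈ M, ∀ x ∈ N, m * x * m⁻¹ ∈ N) (hA : Nat.card A = p ^ 2 * Nat.card N)
    (hAc : ∀ a ∈ A, ∀ m ∈ M, ⁅a, m⁆ ∈ N) (hcomm : ∀ x ∈ M, ∀ y ∈ M, ⁅x, y⁆ ∈ A)
    (hexp : ∀ x ∈ M, x ^ p ∈ N) :
    Nat.card M ≤ p ^ 4 * Nat.card N ∧
      ∃ c ∈ M, ∀ x ∈ M, ∀ y ∈ M, ∃ n : ℤ, (c ^ n)⁻¹ * ⁅x, y⁆ ∈ N := by
  haveI := finite_of_le hMS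
  haveI hN : (N.subgroupOf M).Normal := ⟨fun x hx g => hn g g.2 _ hx⟩
  set q := QuotientGroup.mk' (N.subgroupOf M)
  have hq := QuotientGroup.mk'_surjective (N.subgroupOf M)
  have hNM : Nat.card (N.subgroupOf M) = Nat.card N :=
    Nat.card_congr (subgroupOfEquivOfLe (hNA.trans hAM)).toEquiv
  haveI := finite_of_le (hNA.trans (hAM.trans hMS))
  have hA' : Nat.card ((A.subgroupOf M).map q) = p ^ 2 := by
    have e1 : Nat.card (A.subgroupOf M) = Nat.card A :=
      Nat.card_congr (subgroupOfEquivOfLe hAM).toEquiv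
    set r := q.comp (A.subgroupOf M).subtype
    have h1 := r.ker.card_mul_index
    rw [index_ker, MonoidHom.range_comp, range_subtype] at h1
    have hk : Nat.card r.ker = Nat.card N := by
      rw [← hNM, ← Nat.card_congr (subgroupOfEquivOfLe (show N.subgroupOf M ≤ A.subgroupOf M from
        fun x hx => hNA hx)).toEquiv]
      congr 2
      rw [← MonoidHom.comap_ker, QuotientGroup.ker_mk']
      rfl
    rw [hk, e1, hA, mul_comm (p ^ 2)] at h1
    exact Nat.eq_of_mul_eq_mul_left Nat.card_pos h1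
  obtain ⟨hle, c, hc⟩ := wide (Q := M ⧸ N.subgroupOf M) ((h.pS.to_le hMS).to_quotient _)
    (sectional_quotient (sectional_of_le hMS h.rank) _)
    (fun x => by
      obtain ⟨x, rfl⟩ := hq x
      rw [← map_pow]; exact (QuotientGroup.eq_one_iff _).2 (hexp x x.2))
    hA' (by
      rintro _ ⟨a, ha, rfl⟩ x
      obtain ⟨x, rfl⟩ := hq x
      rw [← commutatorElement_eq_one_iff_mul_comm, ← map_commutatorElement]
      exact (QuotientGroup.eq_one_iff _).2 (hAc a ha x x.2))
    (fun x y => by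
      obtain ⟨x, rfl⟩ := hq x
      obtain ⟨y, rfl⟩ := hq y
      rw [← map_commutatorElement]
      exact mem_map_of_mem q (show ⁅x, y⁆ ∈ A.subgroupOf M from hcomm x x.2 y y.2))
  refine ⟨?_, ?_⟩
  · rw [card_eq_card_quotient_mul_card_subgroup (N.subgroupOf M), hNM]
    exact Nat.mul_le_mul_right _ hle
  obtain ⟨c, rfl⟩ := hq c
  refine ⟨c, c.2, fun x hx y hy => ?_⟩
  obtain ⟨n, hn'⟩ := hc (q ⟨x, hx⟩) (q ⟨y, hy⟩)
  refine ⟨n, ?_⟩
  change q c ^ n = ⁅q ⟨x, hx⟩, q ⟨y, hy⟩⁆ at hn'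
  rw [← map_commutatorElement, ← map_zpow] at hn'
  exact mem_subgroupOf.1 (QuotientGroup.eq.1 hn')

/-! ### The subgroup `vOf` -/

theorem zOne_le_vOf (hE : F.IsEssential p E) : zOne p S ≤ vOf p F E := le_orb (h.zOne_le_ess hE)

omit h in
theorem vOf_le : vOf p F E ≤ E := orb_le

omit h in
theorem inv_vOf : Inv F E (vOf p F E) := inv_orb

theorem nor_vOf (hE : F.IsEssential p E) : Nor S (vOf p F E) := h.nor_of_inv hE orb_le inv_orb

theorem vOf_central (hE : F.IsEssential p E) {v : Ω} (hv : v ∈ vOf p F E) :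
    (∀ y ∈ E, v * y = y * v) ∧ v ^ p = 1 := by
  induction hv using Subgroup.closure_induction with
  | mem w hw =>
    obtain ⟨α, hα, x, hx, hxZ, rfl⟩ := hw
    refine ⟨fun y hy => ?_, by rw [← apl_map_pow α hx, hxZ.2.2, apl_map_one]⟩
    have h1 := congrArg (apl α) (hxZ.2.1 _ (hE.1.1 (apl_mem α⁻¹ hy)))
    rwa [apl_map_mul α hx (apl_mem α⁻¹ hy), apl_map_mul α (apl_mem α⁻¹ hy) hx,
      apl_apl_inv α hy] at h1
  | one => exact ⟨fun y _ => by rw [one_mul, mul_one], one_pow p⟩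
  | mul a b ha hb iha ihb =>
    refine ⟨fun y hy => ?_, ?_⟩
    · rw [mul_assoc, ihb.1 y hy, ← mul_assoc, iha.1 y hy, mul_assoc]
    · rw [(show Commute a b from iha.1 b (orb_le hb)).mul_pow, iha.2, ihb.2, one_mul]
  | inv a _ iha =>
    exact ⟨fun y hy => (show Commute a y from iha.1 y hy).inv_left.eq,
      by rw [inv_pow, iha.2, inv_one]⟩

theorem vOf_elem (hE : F.IsEssential p E) : Elem p (vOf p F E) :=
  ⟨fun _ ha b hb => (h.vOf_central hE ha).1 b (orb_le hb), fun _ ha => (h.vOf_central hE ha).2⟩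

/-- If the socle of the centre moves, the essential subgroup is a centraliser. -/
theorem mem_iff_comm (hE : F.IsEssential p E) (hne : vOf p F E ≠ zOne p S) {x : Ω} (hx : x ∈ S) :
    x ∈ E ↔ ∀ v ∈ vOf p F E, x * v = v * x := by
  refine ⟨fun hxE v hv => ((h.vOf_central hE hv).1 x hxE).symm, fun hc => ?_⟩
  by_contra hxE
  refine hne (le_antisymm (fun v hv => ?_) (h.zOne_le_vOf hE))
  refine ⟨hE.1.1 (orb_le hv), fun y hy => ?_, (h.vOf_central hE hv).2⟩
  obtain ⟨e, he, n, rfl⟩ := h.exists_mul hE hx hxE y hy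
  exact ((show Commute v e from (h.vOf_central hE hv).1 e he).mul_right
    ((show Commute v x from (hc v hv).symm).pow_right n)).eq

/-! ### Images under automorphisms of `S` -/

/-- Automorphisms of `S` send essential subgroups to essential subgroups, and images to images. -/
theorem exists_image_orb (hE : F.IsEssential p E) {β : MulAut S} (hβ : β ∈ F.autGroup S)
    (Q : Subgroup Ω) (hQ : Inv F S Q) :
    ∃ E', F.IsEssential p E' ∧ ∀ x ∈ orb F E Q, apl β x ∈ orb F E' Q := by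
  have hES := hE.1.1
  haveI := finite_of_le hES
  obtain ⟨E', hf, hE'S⟩ := (iso_apl le_rfl hβ).restrict hES
  haveI := finite_of_le hE'S
  haveI : Finite (MulAut E) := Finite.of_injective _ MulEquiv.toEquiv_injective
  haveI : Finite (MulAut E') := Finite.of_injective _ MulEquiv.toEquiv_injective
  have hnor : Nor S E' := by
    intro s hs y hy
    obtain ⟨x, hx, rfl⟩ := hf.exists_eq hy
    have hs' := apl_mem β⁻¹ hs
    have := hf.mem (h.nor_ess hE _ hs' x hx)
    rwa [apl_map_mul β (S.mul_mem hs' (hES hx)) (S.inv_mem hs'), apl_map_mul β hs' (hES hx),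
      apl_map_inv β hs', apl_apl_inv β hs] at this
  have hfn : F.IsFullyNormalized E' := ⟨hE'S, fun R _ => by
    rw [show normalizerIn S E' = S from le_antisymm inf_le_left (le_inf le_rfl hnor.le_normalizer)]
    exact card_le_of_le inf_le_left⟩
  obtain ⟨hn, Y, hY⟩ : ∃ hn : ((Inn E).subgroupOf (F.autGroup E)).Normal,
      ∃ Y : Subgroup (F.autGroup E ⧸ (Inn E).subgroupOf (F.autGroup E)), IsStronglyPEmbedded p Y :=
    hE.2.2
  haveI := hn
  haveI hn' : (innIn F E').Normal := innIn_normal F E'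
  let e : F.autGroup E ≃* F.autGroup E' :=
    (hf.conjAut.subgroupMap (F.autGroup E)).trans (MulEquiv.subgroupCongr hf.map_autGroup)
  have hinn : ((Inn E).subgroupOf (F.autGroup E)).map e.toMonoidHom = innIn F E' := by
    ext γ
    constructor
    · rintro ⟨α, hα, rfl⟩
      obtain ⟨g, hg⟩ := mem_subgroupOf.1 hα
      refine mem_subgroupOf.2 ⟨hf.toEquiv g, ?_⟩
      show _ = hf.conjAut (α : MulAut E)
      rw [← hg]
      refine MulEquiv.ext fun y => ?_
      show hf.toEquiv g * y * (hf.toEquiv g)⁻¹ = hf.toEquiv (g * hf.toEquiv.symm y * g⁻¹)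
      rw [map_mul, map_mul, map_inv, MulEquiv.apply_symm_apply]
    · intro hγ
      obtain ⟨g, hg⟩ := mem_subgroupOf.1 hγ
      refine ⟨⟨MulAut.conj (hf.toEquiv.symm g), inn_le_autGroup hES ⟨_, rfl⟩⟩, ⟨_, rfl⟩, Subtype.ext ?_⟩
      show hf.conjAut (MulAut.conj (hf.toEquiv.symm g)) = _
      rw [← hg]
      refine MulEquiv.ext fun y => ?_
      show hf.toEquiv (hf.toEquiv.symm g * hf.toEquiv.symm y * (hf.toEquiv.symm g)⁻¹) = g * y * g⁻¹
      rw [map_mul, map_mul, map_inv, MulEquiv.apply_symm_apply, MulEquiv.apply_symm_apply]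
  obtain ⟨Y', hY'⟩ := stronglyPEmbedded_map (QuotientGroup.congr _ _ e hinn) hY
  refine ⟨E', ⟨centric_of_isConj hE.1 hf.isConj, hfn, hn', Y', hY'⟩, ?_⟩
  intro x hx
  induction hx using Subgroup.closure_induction with
  | mem w hw =>
    obtain ⟨α, hα, z, hz, hzZ, rfl⟩ := hw
    refine Subgroup.subset_closure ⟨hf.conjAut α, hf.conjAut_mem hα, apl β z, hf.mem hz,
      hQ β hβ z (hES hz) hzZ, (hf.conjAut_apl α hz).symm⟩
  | one => rw [apl_map_one]; exact one_mem _
  | mul a b ha hb iha ihb =>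
    rw [apl_map_mul β (hES (orb_le ha)) (hES (orb_le hb))]; exact mul_mem iha ihb
  | inv a ha iha => rw [apl_map_inv β (hES (orb_le ha))]; exact inv_mem iha

/-- The case of the socle of the centre. -/
theorem exists_image (hE : F.IsEssential p E) {β : MulAut S} (hβ : β ∈ F.autGroup S) :
    ∃ E', F.IsEssential p E' ∧ ∀ x ∈ vOf p F E, apl β x ∈ vOf p F E' :=
  h.exists_image_orb hE hβ (zOne p S) inv_zOne_top

end Hyp

end Cfsg.Agent.FusRankThreeNormal
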