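import Cfsg.Agent.RankThreeEss.Tools
import Cfsg.Agent.Fusion.PGroup

/-!
Group lemmas for sectional rank three at an odd prime: exponents in class two, the section bound,
and the bound on groups with a central elementary subgroup of order `p²` covering the commutators.
-/

set_option autoImplicit false

set_option linter.style.haveILetI false
set_option linter.unusedSectionVars false

namespace Cfsg.Agent.FusRankThreeNormal

open Cfsg Subgroup
open Cfsg.Agent.RankThreeEss (rank_of_injective Elem)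
open scoped commutatorElement

variable {Q : Type*} [Group Q] {p : ℕ} [hp : Fact p.Prime]

/-! ### Exponent in class two -/

theorem pow_p_one_of_class_two [Finite Q] (hodd : Odd p) {x y : Q} (hx : x ^ p = 1) (hy : y ^ p = 1)
    (hcx : Commute ⁅y, x⁆ x) (hcy : Commute ⁅y, x⁆ y) : (x * y) ^ p = 1 := by
  have hc : ⁅y, x⁆ ^ p = 1 := by
    have e : ∀ n : ℕ, y ^ n * x * (y ^ n)⁻¹ = ⁅y, x⁆ ^ n * x := by
      intro n
      induction n with
      | zero => simp
      | succ n ih =>
        calc y ^ (n + 1) * x * (y ^ (n + 1))⁻¹ = y * (y ^ n * x * (y ^ n)⁻¹) * y⁻¹ := by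
              rw [pow_succ']; group
          _ = y * ⁅y, x⁆ ^ n * (x * y⁻¹) := by rw [ih]; group
          _ = ⁅y, x⁆ ^ n * (y * x * y⁻¹) := by rw [← (hcy.pow_left n).eq]; group
          _ = ⁅y, x⁆ ^ (n + 1) * x := by rw [pow_succ, commutatorElement_def]; group
    have h1 := e p
    rw [hy, one_mul, inv_one, mul_one, eq_comm, mul_eq_right] at h1
    exact h1
  rw [Fusion.mul_pow_of_commute_commutator hcx hcy, hx, hy, one_mul, one_mul]
  have hdvd : p ∣ p.choose 2 := by
    have h3 : 3 ≤ p := by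
      rcases hodd with ⟨k, hk⟩
      have := hp.out.two_le
      omega
    exact hp.out.dvd_choose_self (by norm_num) (by omega)
  obtain ⟨k, hk⟩ := hdvd
  rw [hk, pow_mul, hc, one_pow]

/-- Generated by elements of order `p`, with central commutators: exponent `p`. -/
theorem exponent_p_of_gens [Finite Q] (hodd : Odd p) {s : Set Q} {H : Subgroup Q} (hs : closure s = H)
    (hgen : ∀ x ∈ s, x ^ p = 1) (hcen : ∀ a ∈ H, ∀ b ∈ H, ∀ c ∈ H, Commute ⁅a, b⁆ c) :
    ∀ x ∈ H, x ^ p = 1 := by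
  subst hs
  intro x hx
  induction hx using Subgroup.closure_induction with
  | mem y hy => exact hgen y hy
  | one => exact one_pow p
  | mul y z hy hz ihy ihz =>
    exact pow_p_one_of_class_two hodd ihy ihz (hcen z hz y hy y hy) (hcen z hz y hy z hz)
  | inv y _ ihy => rw [inv_pow, ihy, inv_one]

/-! ### Normal products with a cyclic group -/

omit hp in
/-- The elements of `A⟨g⟩`, the cyclic factor normalising `A`. -/
theorem exists_mul_zpow {A : Subgroup Q} {g x : Q} (hg : g ∈ normalizer (A : Set Q))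
    (hx : x ∈ A ⊔ zpowers g) : ∃ a ∈ A, ∃ n : ℤ, a * g ^ n = x := by
  rw [← SetLike.mem_coe, Subgroup.coe_mul_of_right_le_normalizer_left A (zpowers g) (zpowers_le.2 hg)] at hx
  obtain ⟨a, ha, _, ⟨n, rfl⟩, rfl⟩ := hx
  exact ⟨a, ha, n, rfl⟩

omit hp in
/-- The same with a natural exponent. -/
theorem exists_mul_npow [Finite Q] {A : Subgroup Q} {g x : Q} (hg : g ∈ normalizer (A : Set Q))
    (hx : x ∈ A ⊔ zpowers g) : ∃ a ∈ A, ∃ n : ℕ, a * g ^ n = x := by
  obtain ⟨a, ha, n, rfl⟩ := exists_mul_zpow hg hx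
  obtain ⟨m, hm⟩ := (mem_powers_iff_mem_zpowers (x := g)).2 (zpow_mem (mem_zpowers g) n)
  exact ⟨a, ha, m, by rw [← hm]⟩

/-! ### The section bound -/

/-- An elementary abelian section has order at most `p³`. -/
theorem card_section_le [Finite Q] (h3 : SectionalPRankLE p 3 Q) {N A : Subgroup Q} (hNA : N ≤ A)
    (hn : ∀ a ∈ A, ∀ x ∈ N, a * x * a⁻¹ ∈ N) (hcomm : ∀ a ∈ A, ∀ b ∈ A, ⁅a, b⁆ ∈ N)
    (hexp : ∀ a ∈ A, a ^ p ∈ N) : Nat.card A ≤ p ^ 3 * Nat.card N := by
  haveI : (N.subgroupOf A).Normal := ⟨fun x hx g => hn g g.2 _ hx⟩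
  have h := rank_of_injective h3 A.subtype A.subtype_injective (N.subgroupOf A) ⊤
    ⟨⟨fun a b => Subtype.ext (by
      obtain ⟨a, _⟩ := a
      obtain ⟨b, _⟩ := b
      obtain ⟨a, rfl⟩ := QuotientGroup.mk'_surjective (N.subgroupOf A) a
      obtain ⟨b, rfl⟩ := QuotientGroup.mk'_surjective (N.subgroupOf A) b
      exact (by
        rw [← commutatorElement_eq_one_iff_mul_comm, ← map_commutatorElement]
        exact (QuotientGroup.eq_one_iff _).2 (hcomm a a.2 b b.2) :
        QuotientGroup.mk' (N.subgroupOf A) a * QuotientGroup.mk' (N.subgroupOf A) b =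
          QuotientGroup.mk' (N.subgroupOf A) b * QuotientGroup.mk' (N.subgroupOf A) a))⟩⟩
    (fun a _ => by
      obtain ⟨a, rfl⟩ := QuotientGroup.mk'_surjective (N.subgroupOf A) a
      rw [← map_pow]
      exact (QuotientGroup.eq_one_iff _).2 (hexp a a.2))
  rw [card_top] at h
  rw [Subgroup.card_eq_card_quotient_mul_card_subgroup (N.subgroupOf A),
    Nat.card_congr (subgroupOfEquivOfLe hNA).toEquiv]
  exact Nat.mul_le_mul_right _ h

theorem card_elem_le [Finite Q] (h3 : SectionalPRankLE p 3 Q) {A : Subgroup Q} (hA : Elem p A) :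
    Nat.card A ≤ p ^ 3 := by
  have h := card_section_le h3 (bot_le : (⊥ : Subgroup Q) ≤ A)
    (fun a _ x hx => by rw [mem_bot.1 hx, mul_one, mul_inv_cancel]; exact one_mem _)
    (fun a ha b hb => mem_bot.2 (commutatorElement_eq_one_iff_mul_comm.2 (hA.1 a ha b hb)))
    (fun a ha => mem_bot.2 (hA.2 a ha))
  rwa [card_bot, mul_one] at h

/-- The sectional rank passes to subgroups. -/
theorem sectional_of_le {Ω : Type*} [Group Ω] {H K : Subgroup Ω} (h : H ≤ K)
    (h3 : SectionalPRankLE p 3 K) : SectionalPRankLE p 3 H := fun L N _ =>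
  rank_of_injective h3 ((Subgroup.inclusion h).comp L.subtype)
    ((Subgroup.inclusion_injective h).comp L.subtype_injective) N

/-- The sectional rank passes to quotients. -/
theorem sectional_quotient (h3 : SectionalPRankLE p 3 Q) (M : Subgroup Q) [M.Normal] :
    SectionalPRankLE p 3 (Q ⧸ M) := fun H N _ => by
  set f := QuotientGroup.mk' M
  set H' := H.comap f
  set r : H' →* H := (f.comp H'.subtype).codRestrict H fun x => x.2 with hr
  have hrs : Function.Surjective r := fun y => by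
    obtain ⟨x, hx⟩ := QuotientGroup.mk'_surjective M (y : Q ⧸ M)
    exact ⟨⟨x, by rw [mem_comap]; exact hx ▸ y.2⟩, Subtype.ext hx⟩
  have h := h3 H' (N.comap r)
  refine Cfsg.Agent.RankThreeEss.pRankLE_of_mulEquiv
    (QuotientGroup.quotientKerEquivOfSurjective ((QuotientGroup.mk' N).comp r)
      ((QuotientGroup.mk'_surjective N).comp hrs)).symm ?_
  have hk : ((QuotientGroup.mk' N).comp r).ker = N.comap r := by
    rw [← MonoidHom.comap_ker, QuotientGroup.ker_mk']
  exact Cfsg.Agent.RankThreeEss.pRankLE_of_mulEquiv (QuotientGroup.quotientMulEquivOfEq hk) h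

/-! ### A central plane covering the commutators -/

variable [Finite Q]

/-- With a central subgroup `A` of order `p²` containing all commutators, exponent `p` and sectional
rank three, the group is `A⟨g⟩⟨h⟩` up to order `p⁴`. -/
theorem wide (hQ : IsPGroup p Q) (h3 : SectionalPRankLE p 3 Q) (hexp : ∀ x : Q, x ^ p = 1)
    {A : Subgroup Q} (hA : Nat.card A = p ^ 2) (hAc : ∀ a ∈ A, ∀ x : Q, a * x = x * a)
    (hcomm : ∀ x y : Q, ⁅x, y⁆ ∈ A) :
    Nat.card Q ≤ p ^ 4 ∧ ∃ c : Q, ∀ x y : Q, ⁅x, y⁆ ∈ zpowers c := by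
  have cc : RankThreeEss.CommCentral Q := fun a b g => hAc _ (hcomm a b) g
  have hp1 := hp.out.one_lt
  have hnor : ∀ H : Subgroup Q, A ≤ H → H.Normal := fun H hH => ⟨fun x hx g => by
    have e : g * x * g⁻¹ = ⁅g, x⁆ * x := by rw [commutatorElement_def]; group
    rw [e]
    exact H.mul_mem (hH (hcomm g x)) hx⟩
  -- one more cyclic factor multiplies the order by `p`
  have step : ∀ (H : Subgroup Q) (g : Q), A ≤ H → g ∉ H →
      Nat.card (H ⊔ zpowers g : Subgroup Q) = Nat.card H * p := by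
    intro H g hH hg
    haveI := hnor H hH
    have hsub : (((H ⊔ zpowers g : Subgroup Q)) : Set Q) ⊆
        Set.range fun q : H × ZMod p => (q.1 : Q) * g ^ q.2.val := by
      intro x hx
      obtain ⟨a, ha, n, rfl⟩ := exists_mul_npow (mem_normalizer_iff.2 fun y =>
        ⟨fun hy => ‹H.Normal›.conj_mem y hy g, fun hy => by
          simpa [mul_assoc] using ‹H.Normal›.conj_mem _ hy g⁻¹⟩) hx
      refine ⟨(⟨a, ha⟩, (n : ZMod p)), ?_⟩
      simp only
      congr 1
      exact RankThreeEss.pow_eq_pow_of_cast (hexp g) (by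
        haveI : NeZero p := ⟨hp.out.ne_zero⟩
        rw [ZMod.natCast_zmod_val])
    have h1 : Nat.card (H ⊔ zpowers g : Subgroup Q) ≤ Nat.card H * p :=
      (Nat.card_mono (Set.finite_range _) hsub).trans
        ((Finite.card_range_le _).trans (by rw [Nat.card_prod, Nat.card_zmod]))
    obtain ⟨a, ha⟩ := IsPGroup.iff_card.1 (hQ.to_subgroup H)
    obtain ⟨b, hb⟩ := IsPGroup.iff_card.1 (hQ.to_subgroup (H ⊔ zpowers g))
    have hlt : Nat.card H < Nat.card (H ⊔ zpowers g : Subgroup Q) := by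
      refine lt_of_le_of_ne (card_le_of_le le_sup_left) fun e => hg ?_
      exact (eq_of_le_of_card_ge le_sup_left e.ge).symm ▸ mem_sup_right (mem_zpowers g)
    rw [hb, ha, ← pow_succ] at h1
    rw [hb, ha] at hlt
    have := (Nat.pow_le_pow_iff_right hp1).1 h1
    have := (Nat.pow_lt_pow_iff_right hp1).1 hlt
    rw [hb, ha, show b = a + 1 by omega, pow_succ]
  -- the centraliser of an element outside `A` is small
  have cent : ∀ g : Q, g ∉ A → ∀ h : Q, ⁅g, h⁆ = 1 → h ∈ A ⊔ zpowers g := by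
    intro g hg h hgh
    by_contra hh
    have hAe : Elem p A := ⟨fun a ha b _ => hAc a ha b, fun a _ => hexp a⟩
    obtain ⟨he, hc1⟩ := hAe.extend (hexp g) (fun a ha => (hAc a ha g).symm) hg
    have hcomh : ∀ x ∈ A ⊔ zpowers g, h * x = x * h := fun x hx =>
      (mem_centralizer_singleton_iff (k := x) (g := h)).1 ((sup_le (fun a ha =>
        mem_centralizer_singleton_iff.2 (hAc a ha h)) (zpowers_le.2
          (mem_centralizer_singleton_iff.2 (commutatorElement_eq_one_iff_mul_comm.1 hgh))) :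
        A ⊔ zpowers g ≤ centralizer ({h} : Set Q)) hx) |>.symm
    obtain ⟨he2, hc2⟩ := he.extend (hexp h) hcomh hh
    have := card_elem_le h3 he2
    rw [hA] at hc1
    have h4 : p ^ 4 ≤ p ^ 3 := calc
      p ^ 4 = p ^ 2 * p * p := by ring
      _ ≤ _ := (Nat.mul_le_mul_right _ hc1).trans (hc2.trans this)
    exact absurd ((Nat.pow_le_pow_iff_right hp1).1 h4) (by norm_num)
  obtain ⟨n, hn⟩ := IsPGroup.iff_card.1 hQ
  have hle4 : Nat.card Q ≤ p ^ 4 := by
    by_contra hlt
    have h5 : 5 ≤ n := by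
      by_contra hn5
      exact hlt (hn ▸ Nat.pow_le_pow_right hp.out.pos (by omega))
    obtain ⟨e1, he1⟩ : ∃ g : Q, g ∉ A := by
      by_contra! hall
      have := card_le_of_le (show (⊤ : Subgroup Q) ≤ A from fun x _ => hall x)
      rw [card_top, hA, hn] at this
      have := (Nat.pow_le_pow_iff_right hp1).1 this
      omega
    let ad : Q →* A := MonoidHom.mk' (fun y => ⟨⁅e1, y⁆, hcomm e1 y⟩)
      fun a b => Subtype.ext (cc.mul_right e1 a b)
    have hker : ad.ker ≤ A ⊔ zpowers e1 := fun y hy => cent e1 he1 y (congrArg Subtype.val hy)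
    have hc1 := step A e1 le_rfl he1
    have hsurj : Function.Surjective ad := by
      rw [← MonoidHom.range_eq_top]
      refine eq_top_of_le_card _ ?_
      have h1 := Subgroup.card_mul_index ad.ker
      rw [index_ker] at h1
      have h2 := card_le_of_le hker
      rw [hc1, hA] at h2
      rw [hA]
      refine Nat.le_of_mul_le_mul_left ?_ (show 0 < p ^ 3 by positivity)
      calc p ^ 3 * p ^ 2 = p ^ 5 := by ring
        _ ≤ p ^ n := Nat.pow_le_pow_right hp.out.pos h5
        _ = Nat.card ad.ker * Nat.card ad.range := by rw [h1, hn]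
        _ ≤ p ^ 3 * Nat.card ad.range := Nat.mul_le_mul_right _ (h2.trans (le_of_eq (by ring)))
    have hn5 : n = 5 := by
      have h1 := Subgroup.card_mul_index ad.ker
      rw [index_ker, MonoidHom.range_eq_top.2 hsurj, card_top, hA, hn] at h1
      have h2 := card_le_of_le hker
      rw [hc1, hA] at h2
      have : p ^ n ≤ p ^ 5 := by
        rw [← h1]
        calc _ ≤ p ^ 2 * p * p ^ 2 := Nat.mul_le_mul_right _ h2
          _ = p ^ 5 := by ring
      have := (Nat.pow_le_pow_iff_right hp1).1 this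
      omega
    subst hn5
    have hnt : ∀ H : Subgroup Q, Nat.card H < p ^ 5 → ∃ g : Q, g ∉ H := fun H hH => by
      by_contra! hall
      have := card_le_of_le (show (⊤ : Subgroup Q) ≤ H from fun x _ => hall x)
      rw [card_top, hn] at this
      omega
    obtain ⟨e2, he2⟩ := hnt (A ⊔ zpowers e1) (by
      rw [hc1, hA, ← pow_succ]; exact Nat.pow_lt_pow_right hp1 (by norm_num))
    have hc2 := step _ e2 le_sup_left he2
    obtain ⟨e3, he3⟩ := hnt (A ⊔ zpowers e1 ⊔ zpowers e2) (by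
      rw [hc2, hc1, hA, ← pow_succ, ← pow_succ]; exact Nat.pow_lt_pow_right hp1 (by norm_num))
    have hc3 := step _ e3 (le_sup_left.trans le_sup_left) he3
    have htop : A ⊔ zpowers e1 ⊔ zpowers e2 ⊔ zpowers e3 = ⊤ :=
      eq_top_of_card_eq _ (by rw [hc3, hc2, hc1, hA, hn]; ring)
    obtain ⟨k, hk⟩ := hsurj ⟨⁅e2, e3⁆, hcomm e2 e3⟩
    have hk' : ⁅e1, k⁆ = ⁅e2, e3⁆ := congrArg Subtype.val hk
    have nor' : ∀ (H : Subgroup Q) (g : Q), A ≤ H → g ∈ normalizer (H : Set Q) := fun H g hH => by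
      haveI := hnor H hH
      rw [normalizer_eq_top H]; exact mem_top g
    obtain ⟨k2, hk2, j, rfl⟩ := exists_mul_npow (nor' _ e3 (le_sup_left.trans le_sup_left))
      (htop.symm ▸ mem_top k : k ∈ A ⊔ zpowers e1 ⊔ zpowers e2 ⊔ zpowers e3)
    obtain ⟨k1, hk1, i, rfl⟩ := exists_mul_npow (nor' _ e2 le_sup_left) hk2
    obtain ⟨a, ha, l, rfl⟩ := exists_mul_npow (nor' _ e1 le_rfl) hk1
    have hd : ⁅e2, e3⁆ = ⁅e1, e2⁆ ^ i * ⁅e1, e3⁆ ^ j := by
      rw [← hk', cc.mul_right, cc.mul_right, cc.mul_right, cc.pow_right, cc.pow_right, cc.pow_right,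
        commutatorElement_self, one_pow, mul_one,
        commutatorElement_eq_one_iff_mul_comm.2 (hAc a ha e1).symm, one_mul]
    -- commuting elements independent modulo `A`
    have hg : e2 * (e1 ^ j)⁻¹ ∉ A := fun h => he2 (by
      rw [show e2 = e2 * (e1 ^ j)⁻¹ * e1 ^ j by group]
      exact mul_mem_sup h (pow_mem (mem_zpowers _) _))
    have hgh : ⁅e2 * (e1 ^ j)⁻¹, e3 * e1 ^ i⁆ = 1 := by
      have einv : ∀ u v : Q, ⁅u⁻¹, v⁆ = ⁅u, v⁆⁻¹ := fun u v => eq_inv_of_mul_eq_one_left (by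
        rw [← cc.mul_left, inv_mul_cancel, commutatorElement_one_left])
      rw [cc.mul_left, einv, cc.mul_right, cc.mul_right, cc.pow_right, cc.pow_left, cc.pow_left,
        cc.pow_right, commutatorElement_self, one_pow, one_pow, mul_one,
        ← commutatorElement_inv e1 e2, inv_pow, hd]
      rw [show ⁅e1, e2⁆ ^ i * ⁅e1, e3⁆ ^ j = ⁅e1, e3⁆ ^ j * ⁅e1, e2⁆ ^ i from
        hAc _ (A.pow_mem (hcomm _ _) i) _]
      group
    refine he3 ?_
    have h1 := cent _ hg _ hgh
    have h2 : A ⊔ zpowers (e2 * (e1 ^ j)⁻¹) ≤ A ⊔ zpowers e1 ⊔ zpowers e2 :=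
      sup_le (le_sup_left.trans le_sup_left) (zpowers_le.2 (mul_mem (mem_sup_right (mem_zpowers _))
        (inv_mem (mem_sup_left (mem_sup_right (pow_mem (mem_zpowers _) _))))))
    rw [show e3 = e3 * e1 ^ i * (e1 ^ i)⁻¹ by group]
    exact mul_mem (h2 h1) (inv_mem (mem_sup_left (mem_sup_right (pow_mem (mem_zpowers _) _))))
  refine ⟨hle4, ?_⟩
  by_cases hQA : ∀ x : Q, x ∈ A
  · exact ⟨1, fun x y => by
      rw [commutatorElement_eq_one_iff_mul_comm.2 (hAc x (hQA x) y)]; exact one_mem _⟩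
  push Not at hQA
  obtain ⟨g, hg⟩ := hQA
  have hg1 := step A g le_rfl hg
  have key : ∃ h : Q, A ⊔ zpowers g ⊔ zpowers h = ⊤ := by
    by_cases hall : ∀ x : Q, x ∈ A ⊔ zpowers g
    · exact ⟨1, eq_top_iff.2 fun x _ => mem_sup_left (hall x)⟩
    push Not at hall
    obtain ⟨h, hh⟩ := hall
    refine ⟨h, eq_top_of_le_card _ ?_⟩
    rw [step _ h le_sup_left hh, hg1, hA, ← pow_succ, ← pow_succ]
    exact hle4
  obtain ⟨h, hh⟩ := key
  refine ⟨⁅g, h⁆, ?_⟩
  have hclo : closure ((A : Set Q) ∪ {g, h}) = ⊤ := by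
    rw [eq_top_iff, ← hh]
    refine sup_le (sup_le (fun a ha => subset_closure (Or.inl ha)) ?_) ?_
    · exact zpowers_le.2 (subset_closure (Or.inr (Or.inl rfl)))
    · exact zpowers_le.2 (subset_closure (Or.inr (Or.inr rfl)))
  refine RankThreeEss.commutator_le_of_gens cc hclo ?_
  have hz : ∀ a ∈ A, ∀ y : Q, ⁅a, y⁆ ∈ zpowers ⁅g, h⁆ ∧ ⁅y, a⁆ ∈ zpowers ⁅g, h⁆ := fun a ha y => by
    rw [commutatorElement_eq_one_iff_mul_comm.2 (hAc a ha y),
      commutatorElement_eq_one_iff_mul_comm.2 (hAc a ha y).symm]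
    exact ⟨one_mem _, one_mem _⟩
  rintro x (hx | hx | hx) y (hy | hy | hy)
  all_goals first
    | exact (hz x hx _).1
    | exact (hz y hy _).2
    | (try simp only [Set.mem_singleton_iff] at hx hy
       subst hx; subst hy
       first
        | (rw [commutatorElement_self]; exact one_mem _)
        | exact mem_zpowers _
        | (rw [← inv_mem_iff, commutatorElement_inv]; exact mem_zpowers _))

end Cfsg.Agent.FusRankThreeNormal
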