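import Cfsg.Agent.FusRankThreeNormal.Basic
import Cfsg.Agent.RankThreeEss.Module
import Cfsg.Agent.RankThreeEss.Pearl.Extract
import Cfsg.Agent.FusSys.Generation

/-!
An essential subgroup normal in `S` has index `p`, for any odd prime, in sectional rank three.
-/

set_option autoImplicit false
set_option linter.style.haveILetI false
set_option linter.unusedSectionVars false

namespace Cfsg.Agent.FusRankThreeNormal

open Cfsg Cfsg.FusionSystem Cfsg.Agent.FusSys Subgroup

universe u

variable {Ω : Type u} [Group Ω] {S : Subgroup Ω} {F : FusionSystem S} {E : Subgroup Ω} {p : ℕ}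
variable [Finite S] [hp : Fact p.Prime]

/-- A `p`-group of automorphisms of an elementary group of order `p²` has order at most `p`. -/
theorem card_aut_le {Q : Type*} [Group Q] [Finite Q] (hQ : Nat.card Q = p ^ 2)
    {A : Subgroup (MulAut Q)} (hA : IsPGroup p A) : Nat.card A ≤ p := by
  haveI : Finite (MulAut Q) := Finite.of_injective _ MulEquiv.toEquiv_injective
  -- a nontrivial fixed point
  obtain ⟨l, hlfix, hl1⟩ : ∃ l ∈ MulAction.fixedPoints A Q, (1 : Q) ≠ l :=
    hA.exists_fixed_point_of_prime_dvd_card_of_fixed_point Q (hQ ▸ dvd_pow_self p two_ne_zero)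
      (a := (1 : Q)) (fun a => map_one (a : MulAut Q))
  set L := zpowers l with hL
  have hLfix : ∀ α ∈ A, ∀ x ∈ L, α x = x := by
    rintro α hα _ ⟨i, rfl⟩
    show α (l ^ i) = l ^ i
    rw [map_zpow]
    exact congrArg (· ^ i) (hlfix ⟨α, hα⟩)
  obtain ⟨j, hj, hjc⟩ := (Nat.dvd_prime_pow hp.out).1 (hQ ▸ card_subgroup_dvd_card L)
  have hj0 : j ≠ 0 := fun h0 => hl1 (by
    rw [h0, pow_zero] at hjc
    have := card_eq_one.1 hjc
    exact (mem_bot.1 (this ▸ mem_zpowers l : l ∈ (⊥ : Subgroup Q))).symm)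
  by_cases hw : ∀ w, w ∈ L
  · have : A = ⊥ := (eq_bot_iff_forall A).2 fun α hα =>
      MulEquiv.ext fun x => hLfix α hα x (hw x)
    rw [this, card_bot]; exact hp.out.pos
  push Not at hw
  obtain ⟨w, hw⟩ := hw
  -- the stabiliser of `w` is trivial
  have hgen : L ⊔ zpowers w = ⊤ := by
    refine eq_top_of_le_card _ ?_
    obtain ⟨m, hm, hmc⟩ := (Nat.dvd_prime_pow hp.out).1 (hQ ▸ card_subgroup_dvd_card (L ⊔ zpowers w))
    have hlt : Nat.card L < Nat.card (L ⊔ zpowers w : Subgroup Q) := by
      refine lt_of_le_of_ne (card_le_of_le le_sup_left) fun e => hw ?_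
      exact (eq_of_le_of_card_ge le_sup_left e.ge).symm ▸ mem_sup_right (mem_zpowers w)
    rw [hjc, hmc] at hlt
    have := (Nat.pow_lt_pow_iff_right hp.out.one_lt).1 hlt
    rw [hQ, hmc]
    exact Nat.pow_le_pow_right hp.out.pos (by omega)
  have hstab : MulAction.stabilizer A w = ⊥ := by
    refine (eq_bot_iff_forall _).2 fun α hα => Subtype.ext (MulEquiv.ext fun x => ?_)
    have hfix : L ⊔ zpowers w ≤ MonoidHom.eqLocus (α : MulAut Q).toMonoidHom (MonoidHom.id Q) :=
      sup_le (fun x hx => hLfix _ α.2 x hx) (zpowers_le.2 hα)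
    exact hfix (hgen ▸ mem_top x)
  haveI : Fintype (MulAction.orbit A w) := Fintype.ofFinite _
  obtain ⟨m, hm⟩ := hA.card_orbit w
  have horb : Nat.card A = p ^ m := by
    have h1 := (MulAction.stabilizer A w).card_mul_index
    rw [MulAction.index_stabilizer, hstab, card_bot, one_mul] at h1
    rw [← h1, ← Nat.card_coe_set_eq, hm]
  have hlt : Nat.card A < p ^ 2 := by
    rw [horb, ← hm, ← hQ, Nat.card_coe_set_eq]
    refine Set.ncard_lt_card fun e => ?_
    have h1 : (1 : Q) ∈ MulAction.orbit A w := e ▸ Set.mem_univ _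
    obtain ⟨α, hα⟩ := h1
    have hw1 : w = 1 := (α : MulAut Q).injective (hα.trans (map_one _).symm)
    exact hw (hw1 ▸ one_mem L)
  rw [horb] at hlt ⊢
  have := (Nat.pow_lt_pow_iff_right hp.out.one_lt).1 hlt
  calc p ^ m ≤ p ^ 1 := Nat.pow_le_pow_right hp.out.pos (by omega)
    _ = p := pow_one p

namespace Hyp

variable (h : Hyp p F)
include h

/-- Automorphisms trivial on the Frattini quotient are inner. -/
theorem inn_of_frattini (hE : F.IsEssential p E) {K : Subgroup (F.autGroup E)} [K.Normal]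
    (hK : ∀ α ∈ K, ∀ a : E, a⁻¹ * (α : MulAut E) a ∈ frattini E) {α : F.autGroup E} (hα : α ∈ K) :
    (α : MulAut E) ∈ Inn E := by
  haveI := finite_of_le hE.1.1
  haveI : Finite (MulAut E) := Finite.of_injective _ MulEquiv.toEquiv_injective
  have hEp : IsPGroup p E := h.pS.to_le hE.1.1
  obtain ⟨n, hn⟩ := IsPGroup.iff_card.1 hEp
  obtain ⟨r, -, hr⟩ := (Nat.dvd_prime_pow hp.out).1 (hn ▸ (frattini E).index_dvd_card)
  have hd := FGS.card_dvd_of_trivial_on_frattini_quotient hn hr (K.map (F.autGroup E).subtype) (by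
    rintro _ ⟨β, hβ, rfl⟩ a
    have := inv_mem (hK β hβ a⁻¹)
    rwa [map_inv, mul_inv_rev, inv_inv, inv_inv] at this)
  rw [card_map_of_injective (F.autGroup E).subtype_injective] at hd
  obtain ⟨m, -, hm⟩ := (Nat.dvd_prime_pow hp.out).1 hd
  rw [← (essential_radical h.pS h.sat hE).2]
  exact ⟨α, Core.le_pCore (IsPGroup.of_card hm) hα, rfl⟩

/-- The conjugation action of `S`. -/
noncomputable def toAut (hE : F.IsEssential p E) : S →* F.autGroup E :=
  (E.normalizerMonoidHom.comp (Subgroup.inclusion (h.nor E hE))).codRestrict _ fun y =>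
    autInducedBy_le_autGroup hE.1.1 (mem_autInducedBy_iff.2
      ⟨y, y.2, h.nor E hE y.2, fun _ ha => apl_normalizerMonoidHom ⟨(y : Ω), h.nor E hE y.2⟩ ha⟩)

theorem toAut_apl (hE : F.IsEssential p E) (y : S) {a : Ω} (ha : a ∈ E) :
    apl (h.toAut hE y : MulAut E) a = y * a * (y : Ω)⁻¹ :=
  apl_normalizerMonoidHom ⟨(y : Ω), h.nor E hE y.2⟩ ha

theorem toAut_range (hE : F.IsEssential p E) :
    ∃ R : Sylow p (F.autGroup E), (R : Subgroup (F.autGroup E)) = (h.toAut hE).range := by
  obtain ⟨-, R, hR⟩ := fullyAutomized_of_fullyNormalized h.pS h.sat hE.2.1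
  refine ⟨R, ?_⟩
  refine le_antisymm (fun γ hγ => ?_) ?_
  · rw [hR, mem_subgroupOf, mem_autInducedBy_iff] at hγ
    obtain ⟨g, hg, -, hgx⟩ := hγ
    exact ⟨⟨g, hg⟩, Subtype.ext (apl_ext fun a ha => by rw [hgx a ha, h.toAut_apl hE _ ha])⟩
  · rintro _ ⟨y, rfl⟩
    rw [hR, mem_subgroupOf]
    exact mem_autInducedBy_iff.2 ⟨y, y.2, h.nor E hE y.2, fun a ha => h.toAut_apl hE y ha⟩

/-- The index of an essential subgroup. -/
theorem card_eq (hE : F.IsEssential p E) : Nat.card S = p * Nat.card E := by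
  classical
  have hES := hE.1.1
  haveI := finite_of_le hES
  haveI : Finite (MulAut E) := Finite.of_injective _ MulEquiv.toEquiv_injective
  haveI hI : (innIn F E).Normal := innIn_normal F E
  have hEp : IsPGroup p E := h.pS.to_le hES
  have hlt : E < S := essential_lt_top h.pS h.sat hE
  haveI := (h.nor_ess hE).subgroupOf (le_refl S)
  set E' := E.subgroupOf S with hE'
  have hsplit : Nat.card S = E'.index * Nat.card E := by
    rw [← Nat.card_congr (subgroupOfEquivOfLe hES).toEquiv, mul_comm, card_mul_index]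
  obtain ⟨k, hk⟩ := h.pS.index E'
  have hk0 : k ≠ 0 := by
    rintro rfl
    rw [pow_zero, index_eq_one, subgroupOf_eq_top] at hk
    exact hlt.not_ge hk
  -- it suffices that the index is at most `p`
  suffices hle : E'.index ≤ p by
    rw [hsplit, hk]
    rw [hk] at hle
    have := (Nat.pow_le_pow_iff_right hp.out.one_lt).1 (hle.trans (pow_one p).ge)
    rw [show k = 1 by omega, pow_one]
  rcases RankThreeEss.Pearl.frattini_cases h.pS h.rank hE with hr | hr
  · -- two generators
    set φ : F.autGroup E →* MulAut (E ⧸ frattini E) :=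
      MonoidHom.mk' (fun α => QuotientGroup.congr (frattini E) (frattini E) (α : MulAut E)
        ((characteristic_iff_map_eq.1 inferInstance) _)) (fun α β => MulEquiv.ext fun v => by
          obtain ⟨a, rfl⟩ := QuotientGroup.mk'_surjective _ v
          rfl) with hφ
    have hker : ∀ α ∈ φ.ker, ∀ a : E, a⁻¹ * (α : MulAut E) a ∈ frattini E := fun α hα a => by
      have h1 : φ α (a : E ⧸ frattini E) = (a : E ⧸ frattini E) := by
        rw [show φ α = 1 from hα]; rfl
      rw [← QuotientGroup.eq]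
      exact h1.symm
    have hkerS : ((φ.comp (h.toAut hE)).ker : Subgroup S) ≤ E' := fun y hy => by
      have h1 := h.inn_of_frattini hE hker (show h.toAut hE y ∈ φ.ker from hy)
      exact mem_of_conj_mem_inn (centric_self hE.1) hES y.2 (fun a ha => h.toAut_apl hE y ha) h1
    have hc := card_aut_le (p := p) (Q := E ⧸ frattini E) (by rw [← index_eq_card, hr])
      (A := (φ.comp (h.toAut hE)).range)
      ((h.pS.to_subgroup ⊤).map (φ.comp (h.toAut hE)) |> fun hh => by
        rwa [← MonoidHom.range_eq_map] at hh)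
    rw [← index_ker] at hc
    exact (Nat.le_of_dvd (Nat.pos_of_ne_zero index_ne_zero_of_finite)
      (index_dvd_of_le hkerS)).trans hc
  · -- three generators
    obtain ⟨V, _, _, π, q⟩ := RankThreeEss.exists_qpi hEp hr
    obtain ⟨-, -, hn, E0, hE0⟩ := id hE
    set φ : F.autGroup E →* Module.End (ZMod p) V := q.rep.comp (F.autGroup E).subtype with hφ
    have hinn : innIn F E ≤ φ.ker := fun α hα => by
      obtain ⟨g, hg⟩ := mem_subgroupOf.1 hα
      rw [MonoidHom.mem_ker, hφ, MonoidHom.comp_apply, coe_subtype, ← hg, q.rep_conj]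
    set ρ := QuotientGroup.lift (innIn F E) φ hinn with hρ
    have hmks := QuotientGroup.mk'_surjective (innIn F E)
    have hinj : Function.Injective ρ := by
      rw [← MonoidHom.ker_eq_bot_iff, eq_bot_iff]
      intro y hy
      obtain ⟨α, rfl⟩ := hmks y
      refine mem_bot.2 ((QuotientGroup.eq_one_iff _).2 ?_)
      refine h.inn_of_frattini hE (K := φ.ker) (fun β hβ a => ?_) hy
      rw [← q.ker, q.mul, q.inv, ← q.rep_apply,
        show q.rep (β : MulAut E) = 1 from hβ, Module.End.one_apply, add_comm, add_neg_cancel]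
    obtain ⟨R, hR⟩ := h.toAut_range hE
    set T := R.mapSurjective hmks with hT
    obtain ⟨Y, hY, hNY⟩ := exists_proper_of_stronglyPEmbedded hE0 T
    have hset : RankThreeEss.Setup ρ T Y :=
      ⟨hinj, q.dim, three_le h.odd, hY, T.ne_bot_of_dvd_card hE0.1, hNY⟩
    set θ := (QuotientGroup.mk' (innIn F E)).comp (h.toAut hE) with hθ
    have hrange : θ.range = (T : Subgroup (F.autGroup E ⧸ innIn F E)) := by
      rw [hθ, MonoidHom.range_comp, ← hR]; rfl
    have hker : θ.ker ≤ E' := fun y hy => by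
      rw [hθ, MonoidHom.mem_ker, MonoidHom.comp_apply, QuotientGroup.mk'_apply,
        QuotientGroup.eq_one_iff] at hy
      exact mem_of_conj_mem_inn (centric_self hE.1) hES y.2 (fun a ha => h.toAut_apl hE y ha) hy
    have hc : θ.ker.index = p := by rw [index_ker, hrange, hset.card_T]
    exact Nat.le_of_dvd hp.out.pos (hc ▸ index_dvd_of_le hker)

end Hyp

end Cfsg.Agent.FusRankThreeNormal
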