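import Cfsg.Agent.FusRankThreeNormal.Common

/-!
Commutator subgroups of invariant subgroups, and steps of order `p` in `S`.
-/

set_option autoImplicit false
set_option linter.style.haveILetI false
set_option linter.unusedSectionVars false

namespace Cfsg.Agent.FusRankThreeNormal

open Cfsg Cfsg.FusionSystem Cfsg.Agent.FusSys Subgroup
open Cfsg.Agent.RankThreeEss (Elem)
open scoped commutatorElement

universe u

variable {Ω : Type u} [Group Ω] {S : Subgroup Ω} {F : FusionSystem S} {p : ℕ}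

/-- The subgroup generated by the commutators. -/
def commSub (A B : Subgroup Ω) : Subgroup Ω := closure {y | ∃ u ∈ A, ∃ v ∈ B, y = ⁅u, v⁆}

theorem mem_commSub {A B : Subgroup Ω} {u v : Ω} (hu : u ∈ A) (hv : v ∈ B) :
    ⁅u, v⁆ ∈ commSub A B :=
  Subgroup.subset_closure ⟨u, hu, v, hv, rfl⟩

theorem commSub_le {A B N : Subgroup Ω} (h : ∀ u ∈ A, ∀ v ∈ B, ⁅u, v⁆ ∈ N) : commSub A B ≤ N :=
  (closure_le _).2 (by rintro _ ⟨u, hu, v, hv, rfl⟩; exact h u hu v hv)

theorem inv_commSub {E A B : Subgroup Ω} (hA : A ≤ E) (hB : B ≤ E) (hiA : Inv F E A)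
    (hiB : Inv F E B) : Inv F E (commSub A B) := by
  have hle : commSub A B ≤ E := commSub_le fun u hu v hv => by
    rw [commutatorElement_def]
    exact E.mul_mem (E.mul_mem (E.mul_mem (hA hu) (hB hv)) (E.inv_mem (hA hu))) (E.inv_mem (hB hv))
  intro α hα x _ hx
  induction hx using Subgroup.closure_induction with
  | mem y hy =>
    obtain ⟨u, hu, v, hv, rfl⟩ := hy
    rw [apl_map_comm α (hA hu) (hB hv)]
    exact mem_commSub (hiA α hα u (hA hu) hu) (hiB α hα v (hB hv) hv)
  | one => rw [apl_map_one]; exact one_mem _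
  | mul a b ha hb iha ihb =>
    rw [apl_map_mul α (hle ha) (hle hb)]
    exact mul_mem (iha (hle ha)) (ihb (hle hb))
  | inv a ha iha =>
    rw [apl_map_inv α (hle ha)]
    exact inv_mem (iha (hle ha))

/-- Commutators with a fixed element follow from those of generators. -/
theorem comm_induction {N : Subgroup Ω} (hN : Nor S N) {s : Set Ω} (hs : s ⊆ S) {e : Ω}
    (h : ∀ y ∈ s, ⁅y, e⁆ ∈ N) : ∀ y ∈ closure s, ⁅y, e⁆ ∈ N := by
  intro y hy
  induction hy using Subgroup.closure_induction with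
  | mem y hy => exact h y hy
  | one => rw [commutatorElement_one_left]; exact one_mem _
  | mul a b ha _ iha ihb =>
    have e1 : ⁅a * b, e⁆ = a * ⁅b, e⁆ * a⁻¹ * ⁅a, e⁆ := by
      simp only [commutatorElement_def]; group
    rw [e1]
    exact N.mul_mem (hN a ((closure_le _).2 hs ha) _ ihb) iha
  | inv a ha iha =>
    have e1 : ⁅a⁻¹, e⁆ = a⁻¹ * ⁅a, e⁆⁻¹ * a⁻¹⁻¹ := by
      simp only [commutatorElement_def]; group
    rw [e1]
    exact hN _ (S.inv_mem ((closure_le _).2 hs ha)) _ (N.inv_mem iha)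

variable [Finite S] [hp : Fact p.Prime]

/-- A step of order `p` is central. -/
theorem comm_step (hS : IsPGroup p S) {Q R : Subgroup Ω} (hQR : Q ≤ R) (hRS : R ≤ S) (hQ : Nor S Q)
    (hR : Nor S R) (hc : Nat.card R = p * Nat.card Q) :
    ∀ r ∈ R, ∀ s ∈ S, ⁅r, s⁆ ∈ Q := by
  haveI := hQ.subgroupOf (le_refl S)
  haveI := hR.subgroupOf (le_refl S)
  set q := QuotientGroup.mk' (Q.subgroupOf S)
  haveI : ((R.subgroupOf S).map q).Normal :=
    Subgroup.Normal.map inferInstance _ (QuotientGroup.mk'_surjective _)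
  haveI := (hS.to_quotient (Q.subgroupOf S)).isNilpotent
  have hcR : Nat.card ((R.subgroupOf S).map q) = p := by
    set r := q.comp (R.subgroupOf S).subtype
    have h1 := r.ker.card_mul_index
    rw [index_ker, MonoidHom.range_comp, range_subtype,
      Nat.card_congr (subgroupOfEquivOfLe hRS).toEquiv, hc] at h1
    haveI := finite_of_le (hQR.trans hRS)
    have hk : Nat.card r.ker = Nat.card Q := by
      rw [← Nat.card_congr (subgroupOfEquivOfLe (hQR.trans hRS)).toEquiv,
        ← Nat.card_congr (subgroupOfEquivOfLe (show Q.subgroupOf S ≤ R.subgroupOf S from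
          fun x hx => hQR hx)).toEquiv]
      congr 2
      rw [← MonoidHom.comap_ker, QuotientGroup.ker_mk']
      rfl
    rw [hk, mul_comm p] at h1
    exact Nat.eq_of_mul_eq_mul_left Nat.card_pos h1
  have hne : (R.subgroupOf S).map q ≠ ⊥ := fun e => by
    rw [e, card_bot] at hcR; exact hp.out.one_lt.ne hcR
  have h2 := Core.inf_center_ne_bot hne
  have h3 : (R.subgroupOf S).map q ≤ Subgroup.center _ := by
    rcases (Nat.dvd_prime hp.out).1 (hcR ▸ card_dvd_of_le
      (inf_le_left : (R.subgroupOf S).map q ⊓ Subgroup.center _ ≤ _)) with e | e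
    · exact absurd (card_eq_one.1 e) h2
    · exact inf_eq_left.1 (eq_of_le_of_card_ge inf_le_left (hcR.trans e.symm).le)
  intro r hr s hs
  have h4 : q ⁅(⟨r, hRS hr⟩ : S), ⟨s, hs⟩⁆ = 1 := by
    rw [map_commutatorElement, commutatorElement_eq_one_iff_mul_comm]
    exact (mem_center_iff.1 (h3 ⟨⟨r, hRS hr⟩, hr, rfl⟩) _).symm
  exact (QuotientGroup.eq_one_iff (N := Q.subgroupOf S) _).1 h4

/-- Exponent `p` modulo a normal subgroup, from generators, in class two. -/
theorem pow_mem_of_gens (hodd : Odd p) {N : Subgroup Ω} (hN : Nor S N) {s : Set Ω} (hs : s ⊆ S)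
    (hgen : ∀ y ∈ s, y ^ p ∈ N)
    (hcc : ∀ a ∈ closure s, ∀ b ∈ closure s, ∀ c ∈ closure s, ⁅⁅a, b⁆, c⁆ ∈ N) :
    ∀ x ∈ closure s, x ^ p ∈ N := by
  intro x hx
  have hle : closure s ≤ S := (closure_le _).2 hs
  haveI := hN.subgroupOf (le_refl S)
  set q := QuotientGroup.mk' (N.subgroupOf S)
  set H := (closure s).subgroupOf S
  have hclo : closure ((fun y : S => q y) '' {y | (y : Ω) ∈ s}) = H.map q := by
    rw [show (fun y : S => q y) = (q : S → _) from rfl, ← MonoidHom.map_closure]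
    congr 1
    refine map_injective S.subtype_injective ?_
    rw [map_subgroupOf_eq_of_le hle, MonoidHom.map_closure]
    congr 1
    ext y
    exact ⟨fun ⟨w, hw, e⟩ => e ▸ hw, fun hy => ⟨⟨y, hs hy⟩, hy, rfl⟩⟩
  have h1 := exponent_p_of_gens hodd hclo (by
    rintro _ ⟨y, hy, rfl⟩
    show q y ^ p = 1
    rw [← map_pow]
    exact (QuotientGroup.eq_one_iff _).2 (hgen y hy)) (by
    rintro _ ⟨a, ha, rfl⟩ _ ⟨b, hb, rfl⟩ _ ⟨c, hc, rfl⟩
    refine commutatorElement_eq_one_iff_mul_comm.1 ?_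
    rw [← map_commutatorElement, ← map_commutatorElement]
    exact (QuotientGroup.eq_one_iff _).2 (hcc a ha b hb c hc)) (q ⟨x, hle hx⟩) ⟨⟨x, hle hx⟩, hx, rfl⟩
  rw [← map_pow] at h1
  exact (QuotientGroup.eq_one_iff (N := N.subgroupOf S) _).1 h1

namespace Hyp

variable (h : Hyp p F)
include h

/-- A nontrivial normal subgroup contains a central socle of prime order. -/
theorem zOne_le_of_nor (hz : Nat.card (zOne p S) = p) {Q : Subgroup Ω} (hQS : Q ≤ S) (hQ : Nor S Q)
    (hne : Q ≠ ⊥) : zOne p S ≤ Q := by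
  haveI := finite_of_le (zOne_le (p := p) (S := S))
  rcases (Nat.dvd_prime hp.out).1 (hz ▸ card_dvd_of_le (inf_le_right : Q ⊓ zOne p S ≤ zOne p S))
    with e | e
  · exact absurd (card_eq_one.1 e) (inf_zOne_ne_bot h.pS hQS hQ hne)
  · exact inf_eq_right.1 (eq_of_le_of_card_ge inf_le_right (hz.trans e.symm).le)

end Hyp

end Cfsg.Agent.FusRankThreeNormal
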